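import Cfsg.Agent.Lib.G2Spec.Tables
import Cfsg.Agent.Lib.G2SL3.Main
import Cfsg.Agent.Lib.G2Odd.Centralizer
import Cfsg.Agent.Lib.G2Deg.Rels
import Cfsg.Agent.Lib.Chev.Inst

/-!
The centralisers of the torus elements of the group of type G2 over an arbitrary field.
-/

set_option autoImplicit false
set_option linter.dupNamespace false
set_option linter.unusedSectionVars false
set_option maxRecDepth 100000

namespace CfsgLib.G2Spec

open Cfsg.Lie Matrix CfsgLib.Chev CfsgLib.Chev.Chev CfsgLib.G2Odd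
open CfsgLib.G2SL3 (coords)

local notation "Φ" => CfsgLib.Chev.chevG2
local notation "G2gp" => Cfsg.Lie.chevG2.group
local notation "N2" => Cfsg.Lie.chevG2.monomialSubgroup
local notation "H2" => Cfsg.Lie.chevG2.diagonalSubgroup
local notation "I2" => Cfsg.Lie.chevG2.Idx

variable {F : Type*} [Field F]

/-- The torus element of a pair of parameters. -/
noncomputable def tc (c : Fin 2 → Fˣ) : GL I2 F := (Φ).toAlg.torus c

theorem chi_ev (c : Fin 2 → Fˣ) (r : Fin 12) : (Φ).toSys.chi c (R r) = ev c r :=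
  CfsgLib.G2SL3.chi_eq _ c r

theorem tc_mem_H (c : Fin 2 → Fˣ) : tc c ∈ H2 F := CfsgLib.G2SL3.torus_mem_H_G2 _ c

theorem tc_injective : Function.Injective (tc (F := F)) := fun _ _ h => (Φ).torus_injective h

theorem tc_one : tc (1 : Fin 2 → Fˣ) = 1 := map_one _

/-- The torus element as a homomorphism. -/
noncomputable def tcHom : (Fin 2 → Fˣ) →* GL I2 F where
  toFun := tc
  map_one' := tc_one
  map_mul' c d := map_mul _ _ _

theorem tc_pow (c : Fin 2 → Fˣ) (n : ℕ) : tc c ^ n = tc (c ^ n) := ((tcHom (F := F)).map_pow c n).symm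

theorem tc_eq_one_iff {c : Fin 2 → Fˣ} : tc c = 1 ↔ c = 1 :=
  ⟨fun h => tc_injective (h.trans tc_one.symm), fun h => h ▸ tc_one⟩

theorem WL_le_W : (Φ).WL ≤ (Φ).W := by
  rw [CfsgLib.Chev.Chev.WL, CfsgLib.Chev.Chev.WK, Subgroup.closure_le]
  rintro _ ⟨i, -, rfl⟩
  exact (Φ).reflPerm_mem_W i

theorem img_of_W {π : Equiv.Perm (Fin Cfsg.Lie.chevG2.nroots)} (hπ : π ∈ (Φ).W) (s : Fin 12) :
    coords (π (R s)) 0 = img (π (R 7)) (π (R 6)) s 0 ∧ coords (π (R s)) 1 = img (π (R 7)) (π (R 6)) s 1 :=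
  ⟨W_coords _ hπ s 0, W_coords _ hπ s 1⟩

theorem lin_of_W {π : Equiv.Perm (Fin Cfsg.Lie.chevG2.nroots)} (hπ : π ∈ (Φ).W) : Lin (π (R 7)) (π (R 6)) :=
  fun s => ⟨π (R s), img_of_W hπ s⟩

theorem coords_inj : ∀ r s : Fin 12, coords r 0 = coords s 0 → coords r 1 = coords s 1 → r = s := by decide

theorem rel_of_W {π : Equiv.Perm (Fin Cfsg.Lie.chevG2.nroots)} (hπ : π ∈ (Φ).W) {c : Fin 2 → Fˣ} {q : ℤ}
    (h : ∀ r, (Φ).toSys.chi c (π r) ^ q = (Φ).toSys.chi c r) : Rel c q (π (R 7)) (π (R 6)) := by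
  intro s
  have e := h (R s)
  have e' : ev c (π (R s)) ^ q = ev c s :=
    ((congrArg (· ^ q) (chi_ev c (π (R s)))).symm.trans e).trans (chi_ev c s)
  rwa [← (img_of_W hπ s).1, ← (img_of_W hπ s).2]

theorem tc_xg (c : Fin 2 → Fˣ) (r : Fin Cfsg.Lie.chevG2.nroots) (t : F) :
    tc c * (Φ).toAlg.xg r t * (tc c)⁻¹ = (Φ).toAlg.xg r (((Φ).toSys.chi c r : F) * t) :=
  mul_inv_eq_iff_eq_mul.2 ((Φ).toAlg.torus_xg c r t)

/-- A monomial element conjugates torus elements. -/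
theorem conj_tc {n : GL I2 F} {π : Equiv.Perm (Fin Cfsg.Lie.chevG2.nroots)} (hm : (Φ).Mono n π)
    {c c' : Fin 2 → Fˣ} (h : n * tc c * n⁻¹ = tc c') (r : Fin Cfsg.Lie.chevG2.nroots) :
    (Φ).toSys.chi c' (π r) = (Φ).toSys.chi c r := by
  obtain ⟨a, ha, a1, -⟩ := hm.1 r
  refine Units.ext ?_
  have e : tc c' * (Φ).toAlg.xg (π r) a * (tc c')⁻¹ = (Φ).toAlg.xg (π r) (a * ((Φ).toSys.chi c r : F)) := by
    have h1 := a1 (1 : F)
    rw [mul_one] at h1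
    calc tc c' * (Φ).toAlg.xg (π r) a * (tc c')⁻¹
        = n * (tc c * (Φ).toAlg.xg r (1 : F) * (tc c)⁻¹) * n⁻¹ := by rw [← h, ← h1]; group
      _ = _ := by
          rw [show tc c * (Φ).toAlg.xg r (1 : F) * (tc c)⁻¹ =
            (Φ).toAlg.xg r ((Φ).toSys.chi c r : F) from by
              rw [tc_xg, mul_one], a1]
  rw [tc_xg] at e
  exact mul_right_cancel₀ ha (((Φ).toAlg.xg_injective _ e).trans (mul_comm _ _))

theorem exists_conj_tc {n : GL I2 F} (hn : n ∈ N2 F) (c : Fin 2 → Fˣ) : ∃ c' : Fin 2 → Fˣ, n * tc c * n⁻¹ = tc c' :=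
  (Φ).exists_torus_of_mem_H ((Φ).H_conj_mem hn (tc_mem_H c))

/-- The two simple monomial elements. -/
noncomputable def n7 (F : Type*) [Field F] : GL I2 F := (Φ).nw ((Φ).p ⟨0, by decide⟩) 1

/-- The second simple monomial element. -/
noncomputable def n6 (F : Type*) [Field F] : GL I2 F := (Φ).nw ((Φ).p ⟨1, by decide⟩) 1

theorem n_step (i : Fin Cfsg.Lie.chevG2.rank) (f : Fin 12 → Fin 12)
    (hf : ∀ r : Fin 12, ∃ e : F, e ≠ 0 ∧ ∀ u, (Φ).nw ((Φ).p i) 1 * (Φ).toAlg.xg (R r) u =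
      (Φ).toAlg.xg (R (f r)) (e * u) * (Φ).nw ((Φ).p i) 1) :
    ∃ π ∈ (Φ).W, (Φ).Mono ((Φ).nw ((Φ).p i) (1 : Fˣ)) π ∧ ∀ r : Fin 12, π (R r) = R (f r) := by
  refine ⟨(Φ).reflPerm i, (Φ).reflPerm_mem_W i, (Φ).nw_one_mono i, fun r => ?_⟩
  obtain ⟨a, ha, a1, -⟩ := ((Φ).nw_one_mono (F := F) i).1 (R r)
  obtain ⟨e, he, e1⟩ := hf r
  have h := a1 1
  rw [e1, mul_inv_cancel_right, mul_one, mul_one] at h
  exact ((Φ).root_eq_of_xg_eq he h).symm

theorem n7_step : ∃ π ∈ (Φ).W, (Φ).Mono (n7 F) π ∧ ∀ r : Fin 12, π (R r) = R (CfsgLib.G2Deg.sA r) := by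
  refine n_step ⟨0, by decide⟩ _ fun r => ?_
  obtain ⟨e, he, h⟩ := CfsgLib.G2Deg.nA_xr (F := F) r
  exact ⟨e, he, fun u => congrArg Subtype.val (h u)⟩

theorem n6_step : ∃ π ∈ (Φ).W, (Φ).Mono (n6 F) π ∧ ∀ r : Fin 12, π (R r) = R (CfsgLib.G2Deg.sB r) := by
  refine n_step ⟨1, by decide⟩ _ fun r => ?_
  obtain ⟨e, he, h⟩ := CfsgLib.G2Deg.nB_xr (F := F) r
  exact ⟨e, he, fun u => congrArg Subtype.val (h u)⟩

theorem n7_mem : n7 F ∈ N2 F := (Φ).nw_mem_N _ _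

theorem n6_mem : n6 F ∈ N2 F := (Φ).nw_mem_N _ _

/-- A torus element killing a short root is conjugate to one killing the root `9`. -/
theorem exists_conj_nine {c : Fin 2 → Fˣ} {r : Fin 12} (hs : Short r) (h : ev c r = 1) :
    ∃ n ∈ N2 F, ∃ c', n * tc c * n⁻¹ = tc c' ∧ ev c' 9 = 1 := by
  have step : ∀ (n : GL I2 F), n ∈ N2 F → ∀ (f : Fin 12 → Fin 12),
      (∃ π ∈ (Φ).W, (Φ).Mono n π ∧ ∀ r : Fin 12, π (R r) = R (f r)) → ∀ (c : Fin 2 → Fˣ) (r : Fin 12),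
        ev c r = 1 → ∃ c', n * tc c * n⁻¹ = tc c' ∧ ev c' (f r) = 1 := by
    rintro n hn f ⟨π, -, hm, hf⟩ c r h
    obtain ⟨c', hc'⟩ := exists_conj_tc hn c
    refine ⟨c', hc', ?_⟩
    have := conj_tc hm hc' (R r)
    rwa [hf, chi_ev, chi_ev, h] at this
  let good := fun r : Fin 12 => ∀ c : Fin 2 → Fˣ, ev c r = 1 → ∃ n ∈ N2 F, ∃ c', n * tc c * n⁻¹ = tc c' ∧ ev c' 9 = 1
  have g9 : good 9 := fun c h => ⟨1, one_mem _, c, by simp, h⟩
  have gstep : ∀ (n : GL I2 F), n ∈ N2 F → ∀ (f : Fin 12 → Fin 12),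
      (∃ π ∈ (Φ).W, (Φ).Mono n π ∧ ∀ r : Fin 12, π (R r) = R (f r)) → ∀ r s : Fin 12, f r = s → good s → good r := by
    rintro n hn f hf r s rfl hgood c h
    obtain ⟨c1, h1, h1'⟩ := step n hn f hf c r h
    obtain ⟨m, hm, c2, h2, h2'⟩ := hgood c1 h1'
    exact ⟨m * n, mul_mem hm hn, c2, by rw [← h2, ← h1]; group, h2'⟩
  have g8 := gstep _ n7_mem _ n7_step 8 9 (by decide +kernel) g9
  have g7 := gstep _ n6_mem _ n6_step 7 8 (by decide +kernel) g8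
  have g4 := gstep _ n7_mem _ n7_step 4 7 (by decide +kernel) g7
  have g3 := gstep _ n6_mem _ n6_step 3 4 (by decide +kernel) g4
  have g2 := gstep _ n7_mem _ n7_step 2 3 (by decide +kernel) g3
  rcases hs with rfl | rfl | rfl | rfl | rfl | rfl
  exacts [g2 c h, g3 c h, g4 c h, g7 c h, g8 c h, g9 c h]

/-! ### The centralisers -/

theorem eq_of_pi {π σ : Equiv.Perm (Fin Cfsg.Lie.chevG2.nroots)} (hπ : π ∈ (Φ).W) (hσ : σ ∈ (Φ).W) {a b : Fin 12}
    (h7 : π (R 7) = R a) (h6 : π (R 6) = R b) (h7' : σ (R 7) = R a) (h6' : σ (R 6) = R b) : π = σ :=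
  W_eq_of_simple _ hπ hσ (h7.trans h7'.symm) (h6.trans h6'.symm)

/-- A torus element that kills no root has the torus as its centraliser. -/
theorem mem_H_of_regular {c : Fin 2 → Fˣ} (hc : ∀ r, ev c r ≠ 1) {g : GL I2 F} (hg : g ∈ G2gp F)
    (h : Commute (tc c) g) : g ∈ H2 F := by
  refine mem_of_commute_torus Φ (tc_mem_H c) le_rfl (fun r hr => absurd ((chi_ev c r).symm.trans hr) (hc r))
    (fun π hπ hfix => ?_) hg h
  have hW := WL_le_W hπ
  have hrel : Rel c 1 (π (R 7)) (π (R 6)) := rel_of_W hW fun r => by rw [zpow_one]; exact hfix r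
  rcases stab_cases (lin_of_W hW) hrel with ⟨a, b⟩ | ⟨⟨r, hr⟩, -⟩
  · obtain rfl : π = 1 := eq_of_pi hW (one_mem _) a b rfl rfl
    exact ⟨1, one_mem _, one_mem _, Mono.one _⟩
  · exact absurd hr (hc r)

/-- The image of pairs. -/
noncomputable abbrev XI (F : Type*) [Field F] : Subgroup (GL I2 F) := (Xi Φ (F := F)).range

/-- The image of the special linear group. -/
noncomputable abbrev SR (F : Type*) [Field F] : Subgroup (GL I2 F) := (CfsgLib.G2SL3.rep F).range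

theorem tc_mem_SR (c : Fin 2 → Fˣ) : tc c ∈ SR F := by
  let d : Fin 3 → Fˣ := ![c 0, c 0 * c 1, (c 0 * (c 0 * c 1))⁻¹]
  have hd : d 0 * d 1 * d 2 = 1 := mul_inv_cancel (c 0 * (c 0 * c 1))
  refine ⟨⟨Matrix.diagonal fun i => (d i : F), by
    rw [Matrix.det_diagonal, Fin.prod_univ_three, ← Units.val_mul, ← Units.val_mul, hd, Units.val_one]⟩, ?_⟩
  refine (CfsgLib.G2SL3.rep_diag Φ _ d rfl hd).trans ?_
  show tc _ = tc c
  congr 1
  funext i
  fin_cases i <;> simp [d]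

theorem H_le_SR : H2 F ≤ SR F := fun h hh => by
  obtain ⟨c, rfl⟩ := (Φ).exists_torus_of_mem_H hh
  exact tc_mem_SR c

theorem rev_table : ∀ r : Fin 12, (R r).rev = R (![11, 10, 9, 8, 7, 6, 5, 4, 3, 2, 1, 0] r) := by decide

theorem xg_long_mem {r : Fin 12} (hr : ¬ Short r) (t : F) : (Φ).toAlg.xg (R r) t ∈ SR F := by
  have base : ∀ (a b : Fin 3) (hab : a ≠ b) (k : Fin 12), CfsgLib.G2SL3.lng a b = R k →
      (∀ t x y, CfsgLib.G2SL3.act (1 + Matrix.single a b t) (1 + Matrix.single a b (-t)) (Pi.single y 1) x =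
        CfsgLib.G2SL3.DG.xMat F (CfsgLib.G2SL3.lng a b) t x y) → ∀ t : F, (Φ).toAlg.xg (R k) t ∈ SR F := by
    intro a b hab k hk hact t
    refine ⟨CfsgLib.PSLn.xx a b hab t, ?_⟩
    refine Units.ext (Matrix.ext fun x y => ?_)
    rw [CfsgLib.G2SL3.rep_xx_val, hact, hk, (Φ).toAlg.xg_val]
    exact congrFun (congrFun ((Φ).toSys.xMat_eq _ _ _) x) y
  have h5 := base 0 1 (by decide) 5 (by decide +kernel) CfsgLib.G2SL3.act_transvection_01
  have h6 := base 1 0 (by decide) 6 (by decide +kernel) CfsgLib.G2SL3.act_transvection_10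
  have h11 := base 1 2 (by decide) 11 (by decide +kernel) CfsgLib.G2SL3.act_transvection_12
  have h0 := base 2 1 (by decide) 0 (by decide +kernel) CfsgLib.G2SL3.act_transvection_21
  have hn6 : n6 F ∈ SR F := by
    rw [n6, (Φ).p_eq_g2.2]
    refine mul_mem (mul_mem (h6 _) ?_) (h6 _)
    rw [show (rtG2 6 (by decide) : Fin Cfsg.Lie.chevG2.nroots).rev = R 5 by decide]
    exact h5 _
  have hswap : ∀ k : Fin 12, (∀ t : F, (Φ).toAlg.xg (R k) t ∈ SR F) →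
      ∀ t : F, (Φ).toAlg.xg (R (CfsgLib.G2Deg.sB k)) t ∈ SR F := by
    intro k hk t
    obtain ⟨e, he, h⟩ := CfsgLib.G2Deg.nB_xr (F := F) k
    have h' : n6 F * (Φ).toAlg.xg (R k) (e⁻¹ * t) = (Φ).toAlg.xg (R (CfsgLib.G2Deg.sB k)) t * n6 F := by
      have := congrArg Subtype.val (h (e⁻¹ * t))
      rw [← mul_assoc, mul_inv_cancel₀ he, one_mul] at this
      exact this
    rw [← eq_mul_inv_of_mul_eq h'.symm |>.symm]
    exact mul_mem (mul_mem hn6 (hk _)) (inv_mem hn6)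
  have cases : ∀ r : Fin 12, ¬ Short r → r = 5 ∨ r = 6 ∨ r = 11 ∨ r = 0 ∨ r = CfsgLib.G2Deg.sB 11 ∨
      r = CfsgLib.G2Deg.sB 0 := by decide +kernel
  rcases cases r hr with rfl | rfl | rfl | rfl | rfl | rfl
  exacts [h5 t, h6 t, h11 t, h0 t, hswap 11 h11 t, hswap 0 h0 t]

/-- A monomial element of the image of the special linear group with a given action. -/
def SRrep (F : Type*) [Field F] (a b : Fin 12) : Prop :=
  ∃ n ∈ SR F, n ∈ N2 F ∧ ∃ π ∈ (Φ).W, (Φ).Mono n π ∧ π (R 7) = R a ∧ π (R 6) = R b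

theorem n6_mem_SR : n6 F ∈ SR F := by
  rw [n6, (Φ).p_eq_g2.2]
  refine mul_mem (mul_mem (xg_long_mem (r := 6) (by decide) _) ?_) (xg_long_mem (r := 6) (by decide) _)
  rw [show (rtG2 6 (by decide) : Fin Cfsg.Lie.chevG2.nroots).rev = R 5 by decide]
  exact xg_long_mem (by decide) _

theorem sr_reps : SRrep F 8 5 ∧ SRrep F 2 11 ∧ SRrep F 2 10 ∧ SRrep F 8 0 ∧ SRrep F 7 1 := by
  obtain ⟨σ, hσW, hσ, hσr⟩ := n6_step (F := F)
  obtain ⟨τ, hτW, hτ, hτr⟩ := n7_step (F := F)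
  set m := n7 F * n6 F * (n7 F)⁻¹ with hm
  have hmN : m ∈ N2 F := mul_mem (mul_mem n7_mem n6_mem) (inv_mem n7_mem)
  have hmS : m ∈ SR F := by
    have e : n7 F * n6 F =
        (Φ).nw ((Φ).refl ⟨0, by decide⟩ ((Φ).p ⟨1, by decide⟩)) ((Φ).etaU F ⟨0, by decide⟩ ((Φ).p ⟨1, by decide⟩)) *
          n7 F := by
      rw [n7, n6, (Φ).nw_conj_nw, mul_one]
    rw [hm, e, mul_inv_cancel_right]
    have hr : (Φ).refl ⟨0, by decide⟩ ((Φ).p ⟨1, by decide⟩) = R 10 := by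
      have h := hτr 6
      obtain rfl : τ = (Φ).reflPerm ⟨0, by decide⟩ := Mono.unique _ hτ ((Φ).nw_one_mono _)
      rw [(Φ).p_eq_g2.2]
      exact h.trans (by decide +kernel)
    rw [hr]
    refine mul_mem (mul_mem (xg_long_mem (by decide) _) ?_) (xg_long_mem (by decide) _)
    rw [rev_table]
    exact xg_long_mem (by decide) _
  have hτi : (Φ).Mono (n7 F)⁻¹ τ⁻¹ := (Φ).mono_inv n7_mem hτ
  have hρ : (Φ).Mono m (τ * σ * τ⁻¹) := Mono.mul _ (Mono.mul _ hτ hσ) hτi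
  have hτs : ∀ r : Fin 12, τ⁻¹ (R r) = R (CfsgLib.G2Deg.sA r) := fun r => by
    rw [Equiv.Perm.inv_eq_iff_eq, hτr]
    revert r
    decide +kernel
  have hρr : ∀ r : Fin 12, (τ * σ * τ⁻¹) (R r) = R (CfsgLib.G2Deg.sA (CfsgLib.G2Deg.sB (CfsgLib.G2Deg.sA r))) :=
    fun r => by rw [Equiv.Perm.mul_apply, Equiv.Perm.mul_apply, hτs, hσr, hτr]
  have hρW : τ * σ * τ⁻¹ ∈ (Φ).W := mul_mem (mul_mem hτW hσW) (inv_mem hτW)
  refine ⟨⟨_, n6_mem_SR, n6_mem, σ, hσW, hσ, (hσr 7).trans (by decide +kernel), (hσr 6).trans (by decide +kernel)⟩,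
    ⟨m, hmS, hmN, _, hρW, hρ, (hρr 7).trans (by decide +kernel), (hρr 6).trans (by decide +kernel)⟩,
    ⟨_, mul_mem n6_mem_SR hmS, mul_mem n6_mem hmN, _, mul_mem hσW hρW, Mono.mul _ hσ hρ, ?_, ?_⟩,
    ⟨_, mul_mem hmS n6_mem_SR, mul_mem hmN n6_mem, _, mul_mem hρW hσW, Mono.mul _ hρ hσ, ?_, ?_⟩,
    ⟨_, mul_mem (mul_mem n6_mem_SR hmS) n6_mem_SR, mul_mem (mul_mem n6_mem hmN) n6_mem, _,
      mul_mem (mul_mem hσW hρW) hσW, Mono.mul _ (Mono.mul _ hσ hρ) hσ, ?_, ?_⟩⟩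
  all_goals
    simp only [Equiv.Perm.mul_apply, Equiv.Perm.coe_mul, Function.comp_apply] at hρr ⊢
    simp only [hσr, hρr]
    decide +kernel

/-- A torus element that kills no short root has its centraliser in the image of the special linear group. -/
theorem mem_SR_of_long {c : Fin 2 → Fˣ} (hc : ∀ r, Short r → ev c r ≠ 1) {g : GL I2 F} (hg : g ∈ G2gp F)
    (h : Commute (tc c) g) : g ∈ SR F := by
  refine mem_of_commute_torus Φ (tc_mem_H c) H_le_SR (fun r hr t => ?_) (fun π hπ hfix => ?_) hg h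
  · exact xg_long_mem (r := r) (fun hs => hc r hs ((chi_ev c r).symm.trans hr)) t
  have hW := WL_le_W hπ
  have hrel : Rel c 1 (π (R 7)) (π (R 6)) := rel_of_W hW fun r => by rw [zpow_one]; exact hfix r
  rcases stab_cases (lin_of_W hW) hrel with ⟨a, b⟩ | ⟨-, ⟨r, hr, hr'⟩ | hrest⟩
  · obtain rfl : π = 1 := eq_of_pi hW (one_mem _) a b rfl rfl
    exact ⟨1, one_mem _, one_mem _, Mono.one _⟩
  · exact absurd hr' (hc r hr)
  obtain ⟨r1, r2, r3, r4, r5⟩ := sr_reps (F := F)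
  rcases hrest with h' | h' | h' | h' | h' <;> obtain ⟨a, b⟩ := h'
  · obtain ⟨n, h1, h2, σ, hσ, hm, s7, s6⟩ := r1
    obtain rfl : π = σ := eq_of_pi hW hσ a b s7 s6
    exact ⟨n, h1, h2, hm⟩
  · obtain ⟨n, h1, h2, σ, hσ, hm, s7, s6⟩ := r2
    obtain rfl : π = σ := eq_of_pi hW hσ a b s7 s6
    exact ⟨n, h1, h2, hm⟩
  · obtain ⟨n, h1, h2, σ, hσ, hm, s7, s6⟩ := r3
    obtain rfl : π = σ := eq_of_pi hW hσ a b s7 s6
    exact ⟨n, h1, h2, hm⟩
  · obtain ⟨n, h1, h2, σ, hσ, hm, s7, s6⟩ := r4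
    obtain rfl : π = σ := eq_of_pi hW hσ a b s7 s6
    exact ⟨n, h1, h2, hm⟩
  · obtain ⟨n, h1, h2, σ, hσ, hm, s7, s6⟩ := r5
    obtain rfl : π = σ := eq_of_pi hW hσ a b s7 s6
    exact ⟨n, h1, h2, hm⟩

/-- A torus element killing the root `9` has its centraliser in the image of pairs. -/
theorem mem_XI_of_nine {c : Fin 2 → Fˣ} (hc1 : c ≠ 1) (hc : ev c 9 = 1) {g : GL I2 F} (hg : g ∈ G2gp F)
    (h : Commute (tc c) g) : g ∈ XI F := by
  have hker : ∀ r : Fin 12, ev c r = 1 → r = 9 ∨ r = 2 ∨ r = 6 ∨ r = 5 := fun r hr => by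
    rcases dt_nine r with e | e | e | e | e | e
    · exact Or.inl e
    · exact Or.inr (Or.inl e)
    · exact Or.inr (Or.inr (Or.inl e))
    · exact Or.inr (Or.inr (Or.inr e))
    all_goals
      refine absurd (funext fun i => ?_) hc1
      have := pow_dt c (x0 := coords 9 0) (x1 := coords 9 1) hc hr i
      simp only [dt] at e
      rw [e] at this
      simpa using this
  have hroot : ∀ r : Fin 12, r = 9 ∨ r = 2 ∨ r = 6 ∨ r = 5 → ∀ t : F, (Φ).toAlg.xg (R r) t ∈ XI F := by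
    intro r hr t
    rcases hr with rfl | rfl | rfl | rfl
    · rw [← phi_u]; exact phi_nine_mem Φ _
    · rw [← (rev_R).2.1, ← phi_l]; exact phi_nine_mem Φ _
    · rw [← phi_u]; exact phi_six_mem Φ _
    · rw [← (rev_R).1, ← phi_l]; exact phi_six_mem Φ _
  refine mem_of_commute_torus Φ (tc_mem_H c) (H_le_range Φ)
    (fun r hr t => hroot r (hker r ((chi_ev c r).symm.trans hr)) t) (fun π hπ hfix => ?_) hg h
  have hW := WL_le_W hπ
  have h9 : π (R 9) = R 9 ∨ π (R 9) = R 2 := by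
    have e := hfix (R 9)
    replace e : ev c (π (R 9)) = 1 :=
      ((chi_ev c (π (R 9))).symm.trans e).trans ((chi_ev c 9).trans hc)
    have ne : ∀ a b : Fin 12, Lin a b → ¬ (img a b 9 0 = coords 6 0 ∧ img a b 9 1 = coords 6 1) ∧
        ¬ (img a b 9 0 = coords 5 0 ∧ img a b 9 1 = coords 5 1) := by decide +kernel
    have hi := img_of_W hW 9
    have := ne _ _ (lin_of_W hW)
    rcases hker _ e with h' | h' | h' | h'
    · exact Or.inl h'
    · exact Or.inr h'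
    · rw [h'] at hi; exact absurd ⟨hi.1.symm, hi.2.symm⟩ this.1
    · rw [h'] at hi; exact absurd ⟨hi.1.symm, hi.2.symm⟩ this.2
  obtain ⟨σ, hσW, hσ, hσr⟩ := n6_step (F := F)
  have hn6 : n6 F ∈ XI F := by rw [n6, (Φ).p_eq_g2.2]; exact nw_six_mem Φ
  obtain ⟨ν, hνW, hν, -⟩ := (Φ).exists_monoW (F := F) ((Φ).nw_mem_N (R 9) 1)
  have ν6 : ν (R 6) = R 6 := mono_commute Φ hν _ (by
    rw [← phi_w, ← phi_u]
    exact (phi_comm Φ _ _).symm)
  have ν9 : ν (R 9) = R 2 := by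
    obtain ⟨a, ha, a1, -⟩ := hν.1 (R 9)
    have e := a1 1
    rw [(Φ).nw_xg_self, mul_inv_cancel_right, (rev_R).2.1] at e
    exact ((Φ).root_eq_of_xg_eq (neg_ne_zero.2 one_ne_zero) e).symm
  have ν7 : ν (R 7) = R 3 := by
    have e0 := W_coords Φ hνW 9 0
    have e1 := W_coords Φ hνW 9 1
    rw [ν9, ν6] at e0 e1
    have t : ∀ a : Fin 12, coords 2 0 = coords 9 0 * coords a 0 + coords 9 1 * coords 6 0 →
        coords 2 1 = coords 9 0 * coords a 1 + coords 9 1 * coords 6 1 → a = 3 := by decide +kernel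
    exact t _ e0 e1
  have hi := img_of_W hW 9
  have hstab := stab_nine _ _ (lin_of_W hW) (by
    rcases h9 with h' | h' <;> rw [h'] at hi
    · exact Or.inl ⟨hi.1.symm, hi.2.symm⟩
    · exact Or.inr ⟨hi.1.symm, hi.2.symm⟩)
  rcases hstab with ⟨a, b⟩ | ⟨a, b⟩ | ⟨a, b⟩ | ⟨a, b⟩
  · obtain rfl : π = 1 := eq_of_pi hW (one_mem _) a b rfl rfl
    exact ⟨1, one_mem _, one_mem _, Mono.one _⟩
  · obtain rfl : π = ν := eq_of_pi hW hνW a b ν7 ν6
    exact ⟨_, nw_nine_mem Φ, (Φ).nw_mem_N _ _, hν⟩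
  · obtain rfl : π = σ := eq_of_pi hW hσW a b ((hσr 7).trans (by decide +kernel)) ((hσr 6).trans (by decide +kernel))
    exact ⟨_, hn6, n6_mem, hσ⟩
  · refine ⟨_, mul_mem (nw_nine_mem Φ) hn6, mul_mem ((Φ).nw_mem_N _ _) n6_mem, ?_⟩
    have e7 : (ν * σ) (R 7) = R 4 := by
      rw [Equiv.Perm.mul_apply, hσr]
      have e0 := W_coords Φ hνW (CfsgLib.G2Deg.sB 7) 0
      have e1 := W_coords Φ hνW (CfsgLib.G2Deg.sB 7) 1
      rw [ν7, ν6] at e0 e1
      have t : ∀ z : Fin 12, coords z 0 = coords (CfsgLib.G2Deg.sB 7) 0 * coords 3 0 + coords (CfsgLib.G2Deg.sB 7) 1 * coords 6 0 →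
          coords z 1 = coords (CfsgLib.G2Deg.sB 7) 0 * coords 3 1 + coords (CfsgLib.G2Deg.sB 7) 1 * coords 6 1 → z = 4 := by
        decide +kernel
      exact t _ e0 e1
    have e6 : (ν * σ) (R 6) = R 5 := by
      rw [Equiv.Perm.mul_apply, hσr]
      have e0 := W_coords Φ hνW (CfsgLib.G2Deg.sB 6) 0
      have e1 := W_coords Φ hνW (CfsgLib.G2Deg.sB 6) 1
      rw [ν7, ν6] at e0 e1
      have t : ∀ z : Fin 12, coords z 0 = coords (CfsgLib.G2Deg.sB 6) 0 * coords 3 0 + coords (CfsgLib.G2Deg.sB 6) 1 * coords 6 0 →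
          coords z 1 = coords (CfsgLib.G2Deg.sB 6) 0 * coords 3 1 + coords (CfsgLib.G2Deg.sB 6) 1 * coords 6 1 → z = 5 := by
        decide +kernel
      exact t _ e0 e1
    obtain rfl : π = ν * σ := eq_of_pi hW (mul_mem hνW hσW) a b e7 e6
    exact Mono.mul _ hν hσ

end CfsgLib.G2Spec
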