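import Mathlib

/-!
Matrices of finite order prime to the characteristic are diagonalisable by a matrix of determinant one, and
small unipotent matrices.
-/

set_option autoImplicit false

namespace CfsgLib.G2Spec

open Matrix Module

variable {K : Type*} [Field K] [IsAlgClosed K] {ι : Type*} [Fintype ι] [DecidableEq ι] [Nonempty ι]

/-- Diagonalisation by a matrix of determinant one. -/
theorem exists_diag {B : Matrix ι ι K} {L : ℕ} (hL : (L : K) ≠ 0) (hB : B ^ L = 1) :
    ∃ (P : Matrix.SpecialLinearGroup ι K) (d : ι → K), B * P.1 = P.1 * Matrix.diagonal d := by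
  classical
  have hf : Module.End.IsSemisimple (Matrix.toLin' B) := by
    refine Module.End.isSemisimple_of_squarefree_aeval_eq_zero
      (p := Polynomial.X ^ L - Polynomial.C 1) (Polynomial.separable_X_pow_sub_C (1 : K) hL one_ne_zero).squarefree ?_
    simp only [map_one, map_sub, map_pow, Polynomial.aeval_X, sub_eq_zero]
    rw [show Matrix.toLin' B = Matrix.toLinAlgEquiv' B from rfl, ← map_pow, hB, map_one]
  set S : Set (ι → K) := {v | ∃ t : K, B *ᵥ v = t • v}
  have hS : Submodule.span K S = ⊤ := by
    refine top_unique ?_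
    rw [← hf.iSup_eigenspace_eq_top]
    refine iSup_le fun t v hv => Submodule.subset_span ⟨t, ?_⟩
    simpa [Module.End.mem_eigenspace_iff] using hv
  obtain ⟨b, hbS, hbspan, hli⟩ := exists_linearIndependent K S
  let v : Basis b K (ι → K) := Basis.mk hli (by rw [Subtype.range_coe, hbspan, hS])
  have : Fintype b := FiniteDimensional.fintypeBasisIndex v
  have hcard : Fintype.card b = Fintype.card ι := by
    rw [← Module.finrank_eq_card_basis v, Module.finrank_fintype_fun_eq_card]
  let w : Basis ι K (ι → K) := v.reindex (Fintype.equivOfCardEq hcard)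
  have hw : ∀ j, ∃ t : K, B *ᵥ w j = t • w j := fun j => by
    have : w j ∈ S := by
      simp only [w, Basis.reindex_apply, v, Basis.mk_apply]
      exact hbS (Subtype.mem _)
    exact this
  choose d hd using hw
  let P : Matrix ι ι K := (Pi.basisFun K ι).toMatrix w
  have hPv : ∀ i j, P i j = w j i := fun i j => by simp [P, Basis.toMatrix_apply]
  have hP : P.det ≠ 0 := by
    have := (Pi.basisFun K ι).invertibleToMatrix w
    exact ((Matrix.isUnit_iff_isUnit_det P).1 (isUnit_of_invertible P)).ne_zero
  have hcol : B * P = P * Matrix.diagonal d := by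
    ext i j
    rw [Matrix.mul_diagonal, hPv, Matrix.mul_apply]
    have := congrFun (hd j) i
    simp only [Matrix.mulVec, dotProduct, Pi.smul_apply, smul_eq_mul] at this
    rw [mul_comm, ← this]
    simp [hPv]
  obtain ⟨i0⟩ := ‹Nonempty ι›
  let s : ι → K := Function.update 1 i0 P.det⁻¹
  refine ⟨⟨P * Matrix.diagonal s, ?_⟩, d, ?_⟩
  · rw [Matrix.det_mul, Matrix.det_diagonal, Finset.prod_update_of_mem (Finset.mem_univ _)]
    simp [hP]
  · show B * (P * Matrix.diagonal s) = P * Matrix.diagonal s * Matrix.diagonal d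
    rw [← Matrix.mul_assoc, hcol, Matrix.mul_assoc, Matrix.mul_assoc, Matrix.diagonal_mul_diagonal,
      Matrix.diagonal_mul_diagonal]
    simp [mul_comm]

omit [IsAlgClosed K] [Nonempty ι] in
/-- A matrix that commutes with a diagonal matrix respects its eigenvalues. -/
theorem entry_of_commute {d : ι → K} {N : Matrix ι ι K} (h : Commute (Matrix.diagonal d) N) (i j : ι)
    (hij : d i ≠ d j) : N i j = 0 := by
  have := congrFun (congrFun h.eq i) j
  rw [Matrix.diagonal_mul, Matrix.mul_diagonal] at this
  by_contra h0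
  exact hij (mul_right_cancel₀ h0 (this.trans (mul_comm _ _)))

omit [IsAlgClosed K] [Nonempty ι] in
/-- A unipotent matrix. -/
theorem pow_card_eq_zero {N : Matrix ι ι K} (h : IsNilpotent N) : N ^ Fintype.card ι = 0 := by
  have hc := Matrix.isNilpotent_charpoly_sub_pow_of_isNilpotent h
  have h2 := Matrix.aeval_self_charpoly N
  rw [sub_eq_zero.mp hc.eq_zero, map_pow, Polynomial.aeval_X] at h2
  exact h2

omit [IsAlgClosed K] in
/-- A nilpotent 3 by 3 matrix commuting with a nonscalar diagonal matrix squares to zero. -/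
theorem sq_eq_zero_of_commute_diag {d : Fin 3 → K} {N : Matrix (Fin 3) (Fin 3) K} (hN : IsNilpotent N)
    (h : Commute (Matrix.diagonal d) N) (hd : ¬ ∀ i, d i = d 0) : N ^ 2 = 0 := by
  classical
  obtain ⟨k, hk⟩ : ∃ k : Fin 3, ∀ j, j ≠ k → N k j = 0 ∧ N j k = 0 := by
    by_cases e01 : d 0 = d 1
    · have e2 : d 2 ≠ d 0 := fun e => hd fun i => by fin_cases i <;> simp [e01, e]
      exact ⟨2, fun j hj => ⟨entry_of_commute h _ _ (by fin_cases j <;> simp_all),
        entry_of_commute h _ _ (by fin_cases j <;> simp_all [eq_comm])⟩⟩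
    · by_cases e02 : d 0 = d 2
      · exact ⟨1, fun j hj => ⟨entry_of_commute h _ _ (by fin_cases j <;> simp_all [eq_comm]),
          entry_of_commute h _ _ (by fin_cases j <;> simp_all [eq_comm])⟩⟩
      · refine ⟨0, fun j hj => ?_⟩
        have e : d 0 ≠ d j := by fin_cases j <;> simp_all
        exact ⟨entry_of_commute h _ _ e, entry_of_commute h _ _ e.symm⟩
  have hkk : N k k = 0 := by
    have key : ∀ n : ℕ, (N ^ n) k k = N k k ^ n := by
      intro n
      induction n with
      | zero => simp
      | succ n ih =>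
        rw [pow_succ, Matrix.mul_apply, Finset.sum_eq_single k (fun j _ hj => by rw [(hk j hj).2, mul_zero])
          (fun h => absurd (Finset.mem_univ _) h), ih, pow_succ]
    obtain ⟨n, hn⟩ := hN
    have := key n
    rw [hn] at this
    exact eq_zero_of_pow_eq_zero this.symm
  have h3 := pow_card_eq_zero hN
  let σ : Fin 2 → Fin 3 := fun i => k.succAbove i
  let A : Matrix (Fin 2) (Fin 2) K := N.submatrix σ σ
  have hrow : ∀ j, N k j = 0 := fun j => if e : j = k then e ▸ hkk else (hk j e).1
  have hcolz : ∀ j, N j k = 0 := fun j => if e : j = k then e ▸ hkk else (hk j e).2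
  have hpow : ∀ n : ℕ, (N ^ (n + 1)).submatrix σ σ = A ^ (n + 1) := by
    intro n
    induction n with
    | zero => simp [A]
    | succ n ih =>
      ext i j
      rw [pow_succ N, pow_succ A, ← ih, Matrix.submatrix_apply, Matrix.mul_apply, Matrix.mul_apply,
        Fin.sum_univ_succAbove _ k, hrow, mul_zero, zero_add]
      rfl
  have hA : A ^ 2 = 0 := by
    have : IsNilpotent A := ⟨3, by rw [← hpow 2]; simpa using congrArg (fun M => M.submatrix σ σ) h3⟩
    simpa using pow_card_eq_zero this
  have hzrow : ∀ j, (N ^ 2) k j = 0 := fun j => by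
    rw [pow_two, Matrix.mul_apply]; exact Finset.sum_eq_zero fun i _ => by rw [hrow, zero_mul]
  have hzcol : ∀ j, (N ^ 2) j k = 0 := fun j => by
    rw [pow_two, Matrix.mul_apply]; exact Finset.sum_eq_zero fun i _ => by rw [hcolz, mul_zero]
  ext i j
  by_cases hi : i = k
  · subst hi; exact hzrow j
  by_cases hj : j = k
  · subst hj; exact hzcol i
  obtain ⟨i', rfl⟩ := Fin.exists_succAbove_eq hi
  obtain ⟨j', rfl⟩ := Fin.exists_succAbove_eq hj
  have := congrFun (congrFun ((hpow 1).trans hA) i') j'
  simpa using this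

end CfsgLib.G2Spec
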