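import Cfsg.Agent.Lib.G2Spec.Cent
import Cfsg.Agent.Lib.G2Spec.Diag

/-!
Elements that commute with a nontrivial torus element, over an algebraically closed field.
-/

set_option autoImplicit false
set_option linter.dupNamespace false
set_option linter.unusedSectionVars false
set_option maxRecDepth 100000

namespace CfsgLib.G2Spec

open Cfsg.Lie Matrix CfsgLib.Chev CfsgLib.Chev.Chev CfsgLib.G2Odd
open CfsgLib.G2SL3 (coords rep)

local notation "Φ" => CfsgLib.Chev.chevG2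
local notation "G2gp" => Cfsg.Lie.chevG2.group
local notation "N2" => Cfsg.Lie.chevG2.monomialSubgroup
local notation "I2" => Cfsg.Lie.chevG2.Idx

variable {K : Type*} [Field K] [IsAlgClosed K]

theorem conj_pow_mat {ι : Type*} [Fintype ι] [DecidableEq ι] (y : SpecialLinearGroup ι K) (L : ℕ)
    (h : y ^ L = 1) : y.1 ^ L = 1 := by
  rw [← Matrix.SpecialLinearGroup.coe_pow, h, Matrix.SpecialLinearGroup.coe_one]

/-- An element of finite order prime to the characteristic in the image of the special linear group. -/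
theorem torus_conj_SR {x : GL I2 K} (hx : x ∈ SR K) {L : ℕ} (hL : (L : K) ≠ 0) (hxL : x ^ L = 1) :
    ∃ m ∈ G2gp K, ∃ c, m * x * m⁻¹ = tc c := by
  obtain ⟨y, rfl⟩ := hx
  have hy : y ^ L = 1 := CfsgLib.G2SL3.rep_injective (by rw [map_pow, hxL, map_one])
  obtain ⟨P, d, hP⟩ := exists_diag hL (conj_pow_mat y L hy)
  let D := P⁻¹ * y * P
  have hD : D.1 = Matrix.diagonal d := by
    show (P⁻¹).1 * y.1 * P.1 = _
    rw [Matrix.mul_assoc, hP, ← Matrix.mul_assoc, ← Matrix.SpecialLinearGroup.coe_mul, inv_mul_cancel,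
      Matrix.SpecialLinearGroup.coe_one, Matrix.one_mul]
  have hdet := D.2
  rw [hD, Matrix.det_diagonal, Fin.prod_univ_three] at hdet
  have hne : ∀ i, d i ≠ 0 := fun i h0 => by
    fin_cases i <;> simp_all
  let du : Fin 3 → Kˣ := fun i => Units.mk0 (d i) (hne i)
  refine ⟨rep K P⁻¹, CfsgLib.G2SL3.rep_mem_group _, ![du 0, (du 0)⁻¹ * du 1], ?_⟩
  rw [← map_inv, inv_inv, ← map_mul, ← map_mul]
  exact CfsgLib.G2SL3.rep_diag Φ D du hD (Units.ext hdet)

theorem scal_val (a : Kˣ) : ((scal a : Pair K) : GL (Fin 2) K × GL (Fin 2) K) = (scalarGL K a, scalarGL K a) := rfl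

/-- A preimage of the same finite order. -/
theorem exists_pair_of_pow {x : GL I2 K} (hx : x ∈ XI K) {L : ℕ} (hL : 0 < L) (hxL : x ^ L = 1) :
    ∃ y : Pair K, Xi Φ y = x ∧ y.1.1.1 ^ L = 1 ∧ y.1.2.1 ^ L = 1 := by
  obtain ⟨y, rfl⟩ := hx
  have h : y ^ L ∈ (Xi Φ (F := K)).ker := by rw [MonoidHom.mem_ker, map_pow, hxL]
  rw [ker_Xi] at h
  obtain ⟨a, ha⟩ := h
  obtain ⟨α, hα⟩ := IsAlgClosed.exists_pow_nat_eq (a : K) hL
  have hα0 : α ≠ 0 := fun h0 => a.ne_zero (by rw [← hα, h0, zero_pow hL.ne'])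
  set β : Kˣ := Units.mk0 α hα0
  have hβ : β ^ L = a := Units.ext (by simpa [β] using hα)
  have hz : ∀ z : Pair K, Commute (scal β) z := fun z => Subtype.ext (Prod.ext
    (Units.ext (by simp [scal_val, scalarGL, ← Matrix.smul_one_eq_diagonal])) (Units.ext (by simp [scal_val, scalarGL, ← Matrix.smul_one_eq_diagonal])))
  have h1 : ((scal β)⁻¹ * y) ^ L = 1 := by
    rw [(hz y).inv_left.mul_pow, inv_pow, ← map_pow, hβ, ha, inv_mul_cancel]
  refine ⟨(scal β)⁻¹ * y, ?_, ?_, ?_⟩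
  · rw [map_mul, map_inv, (MonoidHom.mem_ker.1 (by rw [ker_Xi]; exact ⟨β, rfl⟩) : Xi Φ (scal β) = 1), _root_.inv_one,
      one_mul]
  · exact congrArg (fun z : Pair K => (z.1.1 : Matrix (Fin 2) (Fin 2) K)) h1 |> fun e => by simpa using e
  · exact congrArg (fun z : Pair K => (z.1.2 : Matrix (Fin 2) (Fin 2) K)) h1 |> fun e => by simpa using e

/-- An element of finite order prime to the characteristic in the image of pairs. -/
theorem torus_conj_XI {x : GL I2 K} (hx : x ∈ XI K) {L : ℕ} (hL : (L : K) ≠ 0) (hxL : x ^ L = 1) :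
    ∃ m ∈ G2gp K, ∃ c, m * x * m⁻¹ = tc c := by
  obtain ⟨y, rfl, hA, hB⟩ := exists_pair_of_pow hx (Nat.pos_of_ne_zero fun h => hL (by simp [h])) hxL
  obtain ⟨P, d, hP⟩ := exists_diag hL hA
  obtain ⟨Q, e, hQ⟩ := exists_diag hL hB
  let z : Pair K := ⟨(P.toGL, Q.toGL), mem_Pair.2 (Units.ext (P.2.trans Q.2.symm))⟩
  let w := z⁻¹ * y * z
  have hw1 : w.1.1.1 = Matrix.diagonal d := by
    show ((P.toGL)⁻¹).1 * y.1.1.1 * P.1 = _
    rw [Matrix.mul_assoc, hP, ← Matrix.mul_assoc]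
    rw [show ((P.toGL)⁻¹).1 * P.1 = 1 from Units.inv_mul P.toGL, Matrix.one_mul]
  have hw2 : w.1.2.1 = Matrix.diagonal e := by
    show ((Q.toGL)⁻¹).1 * y.1.2.1 * Q.1 = _
    rw [Matrix.mul_assoc, hQ, ← Matrix.mul_assoc]
    rw [show ((Q.toGL)⁻¹).1 * Q.1 = 1 from Units.inv_mul Q.toGL, Matrix.one_mul]
  have hdiag : ∀ (r : Fin Cfsg.Lie.chevG2.nroots) (A : GL (Fin 2) K) (f : Fin 2 → K), A.1 = Matrix.diagonal f →
      ∃ c, phi Φ r (sd A) = tc c := by
    intro r A f hf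
    have h10 : (sd A).1 1 0 = 0 := by simp [sd, hf, Matrix.mul_apply, Fin.sum_univ_two]
    have h01 : (sd A).1 0 1 = 0 := by simp [sd, hf, Matrix.mul_apply, Fin.sum_univ_two]
    have h00 : (sd A).1 0 0 ≠ 0 := fun h => by
      have := (sd A).2
      rw [Matrix.det_fin_two, h10, h01, h] at this
      simp at this
    exact ⟨_, phi_diag Φ r (sd A) (Units.mk0 _ h00) h10 h01 rfl⟩
  obtain ⟨c1, h1⟩ := hdiag (R 6) w.1.1 d hw1
  obtain ⟨c2, h2⟩ := hdiag (R 9) w.1.2 e hw2
  refine ⟨(Xi Φ z)⁻¹, inv_mem (Xi_mem_group Φ z), c1 * c2 * ![1, GeneralLinearGroup.det w.1.1], ?_⟩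
  rw [inv_inv, ← map_inv, ← map_mul, ← map_mul]
  show phi Φ (R 6) (sd w.1.1) * phi Φ (R 9) (sd w.1.2) * td Φ _ = _
  rw [h1, h2]
  exact ((map_mul (tcHom (F := K)) (c1 * c2) _).trans (congrArg (· * _) (map_mul (tcHom (F := K)) c1 c2))).symm

theorem conj_conj {G : Type*} [Group G] (m n x : G) : (m * n) * x * (m * n)⁻¹ = m * (n * x * n⁻¹) * m⁻¹ := by
  group

/-- Elements of order prime to the characteristic that commute with a nontrivial torus element. -/
theorem torus_conj_of_commute {c : Fin 2 → Kˣ} (hc : c ≠ 1) {g : GL I2 K} (hg : g ∈ G2gp K)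
    (h : Commute (tc c) g) {L : ℕ} (hL : (L : K) ≠ 0) (hgL : g ^ L = 1) :
    ∃ m ∈ G2gp K, ∃ c', m * g * m⁻¹ = tc c' := by
  by_cases hs : ∃ r, Short r ∧ ev c r = 1
  · obtain ⟨r, hr, hr'⟩ := hs
    obtain ⟨n, hn, c1, h1, h9⟩ := exists_conj_nine hr hr'
    have hnG := (Φ).N_le_group hn
    have hc1 : c1 ≠ 1 := fun e => hc (tc_eq_one_iff.1 (by
      rw [e, tc_one] at h1
      exact conj_eq_one_iff.1 h1))
    have hcomm : Commute (tc c1) (n * g * n⁻¹) := by rw [← h1]; exact h.map (MulAut.conj n)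
    obtain ⟨m, hm, c', h'⟩ := torus_conj_XI (mem_XI_of_nine hc1 h9 (mul_mem (mul_mem hnG hg) (inv_mem hnG)) hcomm) hL
      (by rw [conj_pow, hgL, mul_one, mul_inv_cancel])
    exact ⟨m * n, mul_mem hm hnG, c', by rw [conj_conj, h']⟩
  · push Not at hs
    exact torus_conj_SR (mem_SR_of_long hs hg h) hL hgL

variable (p : ℕ) [Fact p.Prime] [CharP K p]

theorem nilp_of_pow {ι : Type*} [Fintype ι] [DecidableEq ι] [Nonempty ι] {y : Matrix ι ι K} {k : ℕ}
    (h : y ^ p ^ k = 1) : IsNilpotent (y - 1) :=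
  ⟨p ^ k, by rw [sub_pow_char_pow_of_commute _ _ (Commute.one_right y), h, one_pow, sub_self]⟩

theorem pow_of_nilp {ι : Type*} [Fintype ι] [DecidableEq ι] [Nonempty ι] {y : Matrix ι ι K} {m e : ℕ}
    (h : (y - 1) ^ m = 0) (hme : m ≤ p ^ e) : y ^ p ^ e = 1 := by
  have := pow_eq_zero_of_le hme h
  rwa [sub_pow_char_pow_of_commute _ _ (Commute.one_right y), one_pow, sub_eq_zero] at this

/-- Unipotent elements in the image of pairs. -/
theorem unip_XI {u : GL I2 K} (hu : u ∈ XI K) {k : ℕ} (huk : u ^ p ^ k = 1) : u ^ p = 1 := by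
  have hp : p.Prime := Fact.out
  obtain ⟨y, rfl, hA, hB⟩ := exists_pair_of_pow hu (pow_pos hp.pos k) huk
  have key : ∀ {A : Matrix (Fin 2) (Fin 2) K}, A ^ p ^ k = 1 → A ^ p = 1 := fun {A} h => by
    have h2 := pow_card_eq_zero (nilp_of_pow p h)
    rw [Fintype.card_fin] at h2
    simpa using pow_of_nilp p (e := 1) h2 (by simpa using hp.two_le)
  rw [← map_pow]
  convert map_one (Xi Φ (F := K))
  exact Subtype.ext (Prod.ext (Units.ext (by simpa using key hA)) (Units.ext (by simpa using key hB)))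

/-- Unipotent elements in the image of the special linear group commuting with a torus element. -/
theorem unip_SR {c : Fin 2 → Kˣ} {u : GL I2 K} (hu : u ∈ SR K) (h : Commute (tc c) u) {k : ℕ} (huk : u ^ p ^ k = 1) :
    u ^ p = 1 ∨ (p = 2 ∧ u ^ 4 = 1 ∧ c ^ 3 = 1) := by
  have hp : p.Prime := Fact.out
  obtain ⟨y, rfl⟩ := hu
  have hy : y ^ p ^ k = 1 := CfsgLib.G2SL3.rep_injective (by rw [map_pow, huk, map_one])
  have hn := nilp_of_pow p (conj_pow_mat y _ hy)
  let d : Fin 3 → Kˣ := ![c 0, c 0 * c 1, (c 0 * (c 0 * c 1))⁻¹]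
  have hd : d 0 * d 1 * d 2 = 1 := mul_inv_cancel (c 0 * (c 0 * c 1))
  let D : SpecialLinearGroup (Fin 3) K := ⟨Matrix.diagonal fun i => (d i : K), by
    rw [Matrix.det_diagonal, Fin.prod_univ_three, ← Units.val_mul, ← Units.val_mul, hd, Units.val_one]⟩
  have hD : rep K D = tc c := by
    refine (CfsgLib.G2SL3.rep_diag Φ D d rfl hd).trans ?_
    show tc _ = tc c
    congr 1
    funext i
    fin_cases i <;> simp [d]
  have hcomm : Commute (Matrix.diagonal fun i => (d i : K)) (y.1 - 1) := by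
    refine Commute.sub_right ?_ (Commute.one_right _)
    have e : D * y = y * D := CfsgLib.G2SL3.rep_injective (by rw [map_mul, map_mul, hD]; exact h.eq)
    exact congrArg (fun z : SpecialLinearGroup (Fin 3) K => z.1) e
  have lift : ∀ e : ℕ, y.1 ^ p ^ e = 1 → (rep K y) ^ p ^ e = 1 := fun e he => by
    rw [← map_pow, show y ^ p ^ e = 1 from Subtype.ext (by rw [Matrix.SpecialLinearGroup.coe_pow, he, Matrix.SpecialLinearGroup.coe_one]), map_one]
  by_cases hsc : ∀ i, (d i : K) = (d 0 : K)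
  · have h3 := pow_card_eq_zero hn
    rw [Fintype.card_fin] at h3
    rcases hp.eq_two_or_odd with rfl | hodd
    · refine Or.inr ⟨rfl, lift 2 (pow_of_nilp 2 h3 (by norm_num)), ?_⟩
      have e1 : c 1 = 1 := by simpa [d] using Units.ext (hsc 1)
      have e2 : (c 0 * (c 0 * c 1))⁻¹ = c 0 := Units.ext (hsc 2)
      rw [e1, mul_one, inv_eq_iff_mul_eq_one, ← pow_two, ← pow_succ] at e2
      funext i
      fin_cases i <;> simp [e1, e2]
    · left
      have := hp.two_le
      simpa using lift 1 (pow_of_nilp p h3 (by rw [pow_one]; omega))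
  · left
    simpa using lift 1 (pow_of_nilp p (sq_eq_zero_of_commute_diag hn hcomm hsc) (by simpa using hp.two_le))

/-- Unipotent elements that commute with a nontrivial torus element. -/
theorem unip_of_commute {c : Fin 2 → Kˣ} (hc : c ≠ 1) {u : GL I2 K} (hu : u ∈ G2gp K) (h : Commute (tc c) u)
    {k : ℕ} (huk : u ^ p ^ k = 1) (hu1 : u ≠ 1) :
    (∃ r, ev c r = 1) ∧ (u ^ p = 1 ∨ (p = 2 ∧ u ^ 4 = 1 ∧ c ^ 3 = 1)) := by
  have hroot : ∃ r, ev c r = 1 := by
    by_contra hno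
    push Not at hno
    obtain ⟨d, rfl⟩ := (Φ).exists_torus_of_mem_H (mem_H_of_regular hno hu h)
    refine hu1 ((congrArg _ ?_).trans (map_one _))
    have hd : d ^ p ^ k = 1 := (Φ).torus_injective (by rw [map_pow, huk, map_one])
    funext i
    have e : ((d i : K) - 1) ^ p ^ k = 0 := by
      rw [sub_pow_char_pow, one_pow, sub_eq_zero]
      exact congrArg Units.val (congrFun hd i)
    exact Units.ext (sub_eq_zero.1 (eq_zero_of_pow_eq_zero e))
  refine ⟨hroot, ?_⟩
  by_cases hs : ∃ r, Short r ∧ ev c r = 1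
  · obtain ⟨r, hr, hr'⟩ := hs
    obtain ⟨n, hn, c1, h1, h9⟩ := exists_conj_nine hr hr'
    have hnG := (Φ).N_le_group hn
    have hc1 : c1 ≠ 1 := fun e => hc (tc_eq_one_iff.1 (by
      rw [e, tc_one] at h1
      exact conj_eq_one_iff.1 h1))
    have hcomm : Commute (tc c1) (n * u * n⁻¹) := by rw [← h1]; exact h.map (MulAut.conj n)
    have := unip_XI p (mem_XI_of_nine hc1 h9 (mul_mem (mul_mem hnG hu) (inv_mem hnG)) hcomm) (k := k)
      (by rw [conj_pow, huk, mul_one, mul_inv_cancel])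
    rw [conj_pow, conj_eq_one_iff] at this
    exact Or.inl this
  · push Not at hs
    exact unip_SR p (mem_SR_of_long hs hu h) h huk

end CfsgLib.G2Spec
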