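import Cfsg.Agent.Lib.G2Spec.Orders

/-!
The spectrum of the group of type G2: membership and maximality.
-/

set_option autoImplicit false
set_option linter.dupNamespace false
set_option linter.unusedSectionVars false
set_option maxRecDepth 100000

namespace CfsgLib.G2Spec

local notation "G2gp" => Cfsg.Lie.chevG2.group

variable {F : Type*} [Field F] [Fintype F] (p : ℕ) [Fact p.Prime] [CharP F p]

theorem range_cases {n : ℕ} (hn : n ∈ Set.range (orderOf : ↥(G2gp F) → ℕ)) {e : ℕ} (he : 5 < p ^ e) :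
    n ∣ Fintype.card F ^ 2 - 1 ∨ n ∣ Fintype.card F ^ 2 + Fintype.card F + 1 ∨
      n ∣ Fintype.card F ^ 2 - Fintype.card F + 1 ∨ n ∣ p ^ e ∨
      n ∣ p * (Fintype.card F + 1) ∨ n ∣ p * (Fintype.card F - 1) ∨ (p = 2 ∧ n ∣ 12) := by
  obtain ⟨z, rfl⟩ := hn
  rw [← orderOf_injective (G2gp F).subtype Subtype.coe_injective z]
  exact order_cases p z.2 he

include p in
theorem mem_range_five (h4 : 4 ≤ Fintype.card F) {n : ℕ}
    (hn : n = p * (Fintype.card F + 1) ∨ n = p * (Fintype.card F - 1) ∨ n = Fintype.card F ^ 2 - 1 ∨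
      n = Fintype.card F ^ 2 + Fintype.card F + 1 ∨ n = Fintype.card F ^ 2 - Fintype.card F + 1) :
    n ∈ Set.range (orderOf : ↥(G2gp F) → ℕ) := by
  rcases hn with rfl | rfl | rfl | rfl | rfl
  · obtain ⟨x, hx, h⟩ := mixed p true (F := F)
    exact mem_range_of_dvd hx (by simpa using h)
  · obtain ⟨x, hx, h⟩ := mixed p false (F := F)
    exact mem_range_of_dvd hx (by simpa using h)
  · obtain ⟨x, hx, h⟩ := torus_sq p (F := F)
    exact mem_range_of_dvd hx h
  · obtain ⟨x, hx, h⟩ := cyclic_torus p h4 (τ := -1) (Or.inr rfl)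
      (N := Fintype.card F ^ 2 + Fintype.card F + 1) (by push_cast; ring)
    exact mem_range_of_dvd hx h
  · obtain ⟨x, hx, h⟩ := cyclic_torus p h4 (τ := 1) (Or.inl rfl)
      (N := Fintype.card F ^ 2 - Fintype.card F + 1) (by
        rw [Nat.cast_add, Nat.cast_sub (Nat.le_self_pow (by norm_num) _)]
        push_cast; ring)
    exact mem_range_of_dvd hx h

include p in
theorem mem_range_unip {e : ℕ} (he : p ^ e = 4 ∨ p ^ e = 3 ∨ p ^ e = 5) :
    p ^ (e + 1) ∈ Set.range (orderOf : ↥(G2gp F) → ℕ) := by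
  obtain ⟨x, hx, h⟩ := regular_unip p he (F := F)
  exact mem_range_of_dvd hx h

omit p in
theorem antichain {p q x y : ℕ} (hp : p.Prime) (hpq : p ∣ q) (hq : 5 ≤ q)
    (hx : x = p * (q + 1) ∨ x = p * (q - 1) ∨ x = q ^ 2 - 1 ∨ x = q ^ 2 + q + 1 ∨ x = q ^ 2 - q + 1 ∨ x = p ^ 2)
    (hy : y = p * (q + 1) ∨ y = p * (q - 1) ∨ y = q ^ 2 - 1 ∨ y = q ^ 2 + q + 1 ∨ y = q ^ 2 - q + 1 ∨ y = p ^ 2)
    (h : x ∣ y) : x = y := by
  have hone : ∀ {m : ℕ}, p ∣ m → p ∣ m + 1 → False := fun h1 h2 => hp.not_dvd_one ((Nat.dvd_add_right h1).1 h2)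
  have hqq : q ≤ q ^ 2 := Nat.le_self_pow (by norm_num) q
  have hp2 : p ∣ q ^ 2 := hpq.trans (dvd_pow_self _ two_ne_zero)
  have h5q : 5 * q ≤ q ^ 2 := by rw [pow_two]; exact Nat.mul_le_mul_right q hq
  have split : ∀ {z : ℕ}, (z = p * (q + 1) ∨ z = p * (q - 1) ∨ z = q ^ 2 - 1 ∨ z = q ^ 2 + q + 1 ∨
      z = q ^ 2 - q + 1 ∨ z = p ^ 2) → (∃ w, z = p * w ∧ (w = q + 1 ∨ w = q - 1 ∨ w = p)) ∨
      (¬ p ∣ z ∧ q ^ 2 - q + 1 ≤ z ∧ z ≤ q ^ 2 + q + 1) := by
    rintro z (rfl | rfl | rfl | rfl | rfl | rfl)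
    · exact Or.inl ⟨_, rfl, Or.inl rfl⟩
    · exact Or.inl ⟨_, rfl, Or.inr (Or.inl rfl)⟩
    · exact Or.inr ⟨fun h => hone h (by rwa [Nat.sub_add_cancel (by omega)]), by omega, by omega⟩
    · exact Or.inr ⟨fun h => hone (dvd_add hp2 hpq) h, by omega, by omega⟩
    · exact Or.inr ⟨fun h => hone (Nat.dvd_sub hp2 hpq) h, by omega, by omega⟩
    · exact Or.inl ⟨_, pow_two p, Or.inr (Or.inr rfl)⟩
  have hpq' : p ≤ q := Nat.le_of_dvd (by omega) hpq
  have hpm : ¬ p ∣ q - 1 := fun h => hone h (by rwa [Nat.sub_add_cancel (by omega)])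
  rcases split hx with ⟨x', rfl, hx'⟩ | ⟨hpx, hx1, hx2⟩ <;> rcases split hy with ⟨y', rfl, hy'⟩ | ⟨hpy, hy1, hy2⟩
  · have h' := Nat.dvd_of_mul_dvd_mul_left hp.pos h
    have key : ∀ {u v : ℕ}, u ∣ v → v < 2 * u → 0 < v → u = v := by
      rintro u v ⟨k, rfl⟩ h2 h0
      rcases k with _ | _ | k
      · omega
      · omega
      · nlinarith
    congr 1
    rcases hx' with e | e | e <;> rcases hy' with e' | e' | e' <;> rw [e, e'] at h' ⊢
    · exact key h' (by omega) (by omega)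
    · have := Nat.le_of_dvd hp.pos h'; omega
    · exact key h' (by omega) (by omega)
    · rcases (Nat.dvd_prime hp).1 h' with h1 | h1
      · omega
      · exact h1
    · exact absurd h' (fun h => hone hpq h)
    · exact absurd h' hpm
  · exact absurd ((dvd_mul_right p x').trans h) hpy
  · have hco : Nat.Coprime x p := Nat.Coprime.symm (hp.coprime_iff_not_dvd.2 hpx)
    have h' := hco.dvd_of_dvd_mul_left h
    have hy0 : 0 < y' := by rcases hy' with e | e | e <;> subst e <;> have := hp.pos <;> omega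
    have := Nat.le_of_dvd hy0 h'
    rcases hy' with e | e | e <;> omega
  · obtain ⟨k, rfl⟩ := h
    rcases k with _ | _ | k
    · omega
    · simp
    · have : x * 2 ≤ x * (k + 1 + 1) := Nat.mul_le_mul_left _ (by omega)
      omega

end CfsgLib.G2Spec
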