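import Cfsg.Agent.Lib.G2Deg.Rels
import Cfsg.Agent.Lib.Chev.ConjMemU

/-!
Powers in the unipotent radical of a Borel subgroup of type G2.
-/

set_option autoImplicit false
set_option linter.unusedSimpArgs false
set_option maxRecDepth 100000

namespace CfsgLib.G2Spec

open CfsgLib.G2Deg (xr GG conj_eq terms xr_add xr_zero xr_neg)

variable {F : Type*} [Field F]

theorem xr_commute (r s : Fin 12) (hne : s ≠ r) (hneg : s.val ≠ Cfsg.Lie.chevG2.neg r.val)
    (h : Cfsg.Lie.chevG2.commTerms r.val s.val = []) (t u : F) : xr r t * xr s u = xr s u * xr r t := by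
  rw [conj_eq r s hne hneg, terms, h]
  simp

/-- The last four coordinates. -/
noncomputable def M4 (c d e f : F) : GG F := xr 8 c * xr 9 d * xr 10 e * xr 11 f

/-- The coordinates. -/
noncomputable def V6 (b a c d e f : F) : GG F := xr 6 b * xr 7 a * M4 c d e f

theorem step11 (b a c d e f s : F) : V6 b a c d e f * xr 11 s = V6 b a c d e (f + s) := by
  simp only [V6, M4, mul_assoc, xr_add]

theorem step10 (b a c d e f s : F) : V6 b a c d e f * xr 10 s = V6 b a c d (e + s) f := by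
  simp only [V6, M4, mul_assoc, xr_add]
  rw [xr_commute 11 10 (by decide) (by decide +kernel) (by decide +kernel)]

theorem step9 (b a c d e f s : F) : V6 b a c d e f * xr 9 s = V6 b a c (d + s) e f := by
  simp only [V6, M4, mul_assoc, xr_add]
  rw [xr_commute 11 9 (by decide) (by decide +kernel) (by decide +kernel), ← mul_assoc (xr 10 e),
    xr_commute 10 9 (by decide) (by decide +kernel) (by decide +kernel)]
  simp only [mul_assoc]

theorem swap98 (d s : F) : xr 9 d * xr 8 s = xr 8 s * xr 9 d * xr 11 (-(3 * s * d)) := by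
  have h := CfsgLib.G2Deg.x8_x9 (-s) d
  rw [xr_neg, mul_assoc (xr 9 d), inv_mul_eq_iff_eq_mul] at h
  calc xr 9 d * xr 8 s = xr 8 s * (xr 9 d * (xr 11 (3 * -s * d) * (xr 8 s)⁻¹)) * xr 8 s := by rw [← h]
    _ = _ := by rw [show 3 * -s * d = -(3 * s * d) by ring]; group

theorem step8 (b a c d e f s : F) : V6 b a c d e f * xr 8 s = V6 b a (c + s) d e (f + -(3 * s * d)) := by
  calc V6 b a c d e f * xr 8 s = xr 6 b * xr 7 a * xr 8 c * xr 9 d * xr 10 e * (xr 11 f * xr 8 s) := by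
        simp only [V6, M4, mul_assoc]
    _ = xr 6 b * xr 7 a * xr 8 c * xr 9 d * (xr 10 e * xr 8 s) * xr 11 f := by
        rw [xr_commute 11 8 (by decide) (by decide +kernel) (by decide +kernel)]; simp only [mul_assoc]
    _ = xr 6 b * xr 7 a * xr 8 c * (xr 9 d * xr 8 s) * xr 10 e * xr 11 f := by
        rw [xr_commute 10 8 (by decide) (by decide +kernel) (by decide +kernel)]; simp only [mul_assoc]
    _ = xr 6 b * xr 7 a * xr 8 c * xr 8 s * xr 9 d * (xr 11 (-(3 * s * d)) * xr 10 e) * xr 11 f := by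
        rw [swap98]; simp only [mul_assoc]
    _ = _ := by
        rw [xr_commute 11 10 (by decide) (by decide +kernel) (by decide +kernel)]
        simp only [V6, M4, mul_assoc, xr_add]
        rw [← xr_add, ← xr_add 11, add_comm f]

theorem M4_mul (c d e f c' d' e' f' : F) :
    M4 c d e f * M4 c' d' e' f' = M4 (c + c') (d + d') (e + e') (f + -(3 * c' * d) + f') := by
  have h : ∀ x : GG F, xr 6 (0 : F) * xr 7 0 * x = x := fun x => by rw [xr_zero, xr_zero, one_mul, one_mul]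
  have h' : V6 0 0 c d e f * M4 c' d' e' f' = V6 0 0 (c + c') (d + d') (e + e') (f + -(3 * c' * d) + f') := by
    conv_lhs => rw [M4]
    simp only [← mul_assoc]
    rw [step8, step9, step10, step11]
  simpa [V6, h] using h'

theorem swap76 (a u : F) : xr 7 a * xr 6 u =
    xr 6 u * xr 7 a * M4 (-(u * a)) (-(u * a ^ 2)) (u * a ^ 3) (-(2 * u ^ 2 * a ^ 3)) := by
  have h := CfsgLib.G2Deg.x6_x7 (-u) a
  rw [xr_neg, inv_mul_eq_iff_eq_mul] at h
  calc xr 7 a * xr 6 u = xr 6 u * (xr 7 a * xr 8 (-u * a) * xr 9 (-u * a ^ 2) * xr 10 (-(-u * a ^ 3)) *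
        xr 11 (-(2 * (-u) ^ 2 * a ^ 3)) * (xr 6 u)⁻¹) * xr 6 u := by rw [← h]
    _ = _ := by
        simp only [M4, neg_mul, neg_neg, neg_sq]
        group

theorem step7 (b a c d e f s : F) : V6 b a c d e f * xr 7 s =
    V6 b (a + s) c (d + 2 * s * c) (e + -(3 * s * d) + -(3 * s ^ 2 * c)) (f + -(3 * s * c ^ 2)) := by
  have h97 : xr 9 d * xr 7 s = xr 7 s * xr 9 d * xr 10 (-(3 * s * d)) := by
    have h := CfsgLib.G2Deg.x7_x9 (-s) d
    rw [xr_neg, mul_assoc (xr 9 d), inv_mul_eq_iff_eq_mul] at h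
    calc xr 9 d * xr 7 s = xr 7 s * (xr 9 d * (xr 10 (3 * -s * d) * (xr 7 s)⁻¹)) * xr 7 s := by rw [← h]
      _ = _ := by rw [show 3 * -s * d = -(3 * s * d) by ring]; group
  have h87 : xr 8 c * xr 7 s = xr 7 s * (xr 8 c * xr 9 (2 * s * c) * xr 10 (-(3 * s ^ 2 * c)) * xr 11 (-(3 * s * c ^ 2))) := by
    have h := CfsgLib.G2Deg.x7_x8 (-s) c
    rw [xr_neg, inv_mul_eq_iff_eq_mul] at h
    calc xr 8 c * xr 7 s = xr 7 s * (xr 8 c * xr 9 (-(2 * -s * c)) * xr 10 (-(3 * (-s) ^ 2 * c)) *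
          xr 11 (3 * -s * c ^ 2) * (xr 7 s)⁻¹) * xr 7 s := by rw [← h]
      _ = _ := by
          rw [show -(2 * -s * c) = 2 * s * c by ring, neg_sq, show 3 * -s * c ^ 2 = -(3 * s * c ^ 2) by ring]
          group
  calc V6 b a c d e f * xr 7 s = xr 6 b * xr 7 a * xr 8 c * xr 9 d * xr 10 e * (xr 11 f * xr 7 s) := by
        simp only [V6, M4, mul_assoc]
    _ = xr 6 b * xr 7 a * xr 8 c * xr 9 d * (xr 10 e * xr 7 s) * xr 11 f := by
        rw [xr_commute 11 7 (by decide) (by decide +kernel) (by decide +kernel)]; simp only [mul_assoc]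
    _ = xr 6 b * xr 7 a * xr 8 c * (xr 9 d * xr 7 s) * xr 10 e * xr 11 f := by
        rw [xr_commute 10 7 (by decide) (by decide +kernel) (by decide +kernel)]; simp only [mul_assoc]
    _ = xr 6 b * xr 7 a * (xr 8 c * xr 7 s) * xr 9 d * xr 10 (-(3 * s * d)) * xr 10 e * xr 11 f := by
        rw [h97]; simp only [mul_assoc]
    _ = xr 6 b * (xr 7 a * xr 7 s) *
        (M4 c (2 * s * c) (-(3 * s ^ 2 * c)) (-(3 * s * c ^ 2)) * M4 0 d (-(3 * s * d) + e) f) := by
        rw [h87]; simp only [M4, mul_assoc, xr_add, xr_zero, one_mul]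
    _ = _ := by
        rw [M4_mul, ← xr_add, V6]
        congr 2 <;> ring

theorem step6 (b a c d e f u : F) : V6 b a c d e f * xr 6 u =
    V6 (b + u) a (c + -(u * a)) (d + -(u * a ^ 2)) (e + u * a ^ 3)
      (f + -(u * e) + -(2 * u ^ 2 * a ^ 3) + 3 * c * u * a ^ 2) := by
  have h106 : xr 10 e * xr 6 u = xr 6 u * xr 10 e * xr 11 (-(u * e)) := by
    have h := CfsgLib.G2Deg.x6_x10 (-u) e
    rw [xr_neg, mul_assoc (xr 10 e), inv_mul_eq_iff_eq_mul] at h
    calc xr 10 e * xr 6 u = xr 6 u * (xr 10 e * (xr 11 (-u * e) * (xr 6 u)⁻¹)) * xr 6 u := by rw [← h]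
      _ = _ := by rw [neg_mul]; group
  calc V6 b a c d e f * xr 6 u = xr 6 b * xr 7 a * xr 8 c * xr 9 d * xr 10 e * (xr 11 f * xr 6 u) := by
        simp only [V6, M4, mul_assoc]
    _ = xr 6 b * xr 7 a * xr 8 c * xr 9 d * (xr 10 e * xr 6 u) * xr 11 f := by
        rw [xr_commute 11 6 (by decide) (by decide +kernel) (by decide +kernel)]; simp only [mul_assoc]
    _ = xr 6 b * xr 7 a * xr 8 c * (xr 9 d * xr 6 u) * xr 10 e * xr 11 (-(u * e)) * xr 11 f := by
        rw [h106]; simp only [mul_assoc]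
    _ = xr 6 b * xr 7 a * (xr 8 c * xr 6 u) * xr 9 d * xr 10 e * xr 11 (-(u * e)) * xr 11 f := by
        rw [xr_commute 9 6 (by decide) (by decide +kernel) (by decide +kernel)]; simp only [mul_assoc]
    _ = xr 6 b * (xr 7 a * xr 6 u) * M4 c d e (-(u * e) + f) := by
        rw [xr_commute 8 6 (by decide) (by decide +kernel) (by decide +kernel)]
        simp only [M4, mul_assoc, xr_add]
    _ = xr 6 b * xr 6 u * xr 7 a *
        (M4 (-(u * a)) (-(u * a ^ 2)) (u * a ^ 3) (-(2 * u ^ 2 * a ^ 3)) * M4 c d e (-(u * e) + f)) := by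
        rw [swap76]; simp only [mul_assoc]
    _ = _ := by
        rw [M4_mul, ← xr_add, V6]
        congr 2 <;> ring

/-- The product in coordinates. -/
theorem V6_mul (b a c d e f B A C D E G : F) : V6 b a c d e f * V6 B A C D E G =
    V6 (b + B) (a + A) (c + -(B * a) + C) (d + -(B * a ^ 2) + 2 * A * (c + -(B * a)) + D)
      (e + B * a ^ 3 + -(3 * A * (d + -(B * a ^ 2))) + -(3 * A ^ 2 * (c + -(B * a))) + E)
      (f + -(B * e) + -(2 * B ^ 2 * a ^ 3) + 3 * c * B * a ^ 2 + -(3 * A * (c + -(B * a)) ^ 2) +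
        -(3 * C * (d + -(B * a ^ 2) + 2 * A * (c + -(B * a)))) + G) := by
  conv_lhs => arg 2; rw [V6, M4]
  simp only [← mul_assoc]
  rw [step6, step7, step8, step9, step10, step11]

theorem choose_facts (n : ℕ) :
    (n : F) ^ 2 = n + 2 * (n.choose 2 : F) ∧
    (n : F) ^ 3 = n + 6 * (n.choose 2 : F) + 6 * (n.choose 3 : F) ∧
    (n : F) * (n.choose 2 : F) = 2 * (n.choose 2 : F) + 3 * (n.choose 3 : F) ∧
    (n : F) ^ 2 * (n.choose 2 : F) = 4 * (n.choose 2 : F) + 15 * (n.choose 3 : F) + 12 * (n.choose 4 : F) ∧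
    (n.choose 2 : F) ^ 2 = (n.choose 2 : F) + 6 * (n.choose 3 : F) + 6 * (n.choose 4 : F) := by
  induction n with
  | zero => simp
  | succ n ih =>
    obtain ⟨h2, h3, h4, h5, h6⟩ := ih
    simp only [Nat.choose_succ_succ, Nat.choose_one_right, Nat.cast_add, Nat.cast_one, Nat.succ_eq_add_one,
      show Nat.succ 0 = 1 from rfl]
    refine ⟨?_, ?_, ?_, ?_, ?_⟩
    · linear_combination h2
    · linear_combination h3 + 3 * h2
    · linear_combination h4 + h2
    · linear_combination h5 + h3 + 2 * h4 + 2 * h2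
    · linear_combination h6 + h2 + 2 * h4

/-- Powers in coordinates. -/
theorem V6_pow (b a c d e f : F) : ∀ n : ℕ, V6 b a c d e f ^ n =
    V6 ((n : F) * b) (n * a) (n * c + -((n.choose 2 : F) * (b * a)))
      (n * d + (n.choose 2 : F) * (-3 * b * a ^ 2 + 2 * a * c) + -4 * (n.choose 3 : F) * (b * a ^ 2))
      (n * e + (n.choose 2 : F) * (7 * b * a ^ 3 + -3 * a * d + -3 * a ^ 2 * c) +
        (n.choose 3 : F) * (24 * b * a ^ 3 + -6 * a ^ 2 * c) + 18 * (n.choose 4 : F) * (b * a ^ 3))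
      (n * f + (n.choose 2 : F) * (-(b * e) + -5 * b ^ 2 * a ^ 3 + 18 * b * a ^ 2 * c + -9 * a * c ^ 2 + -3 * c * d) +
        (n.choose 3 : F) * (-52 * b ^ 2 * a ^ 3 + 66 * b * a ^ 2 * c + -12 * a * c ^ 2 + 3 * b * a * d) +
        (n.choose 4 : F) * (-117 * b ^ 2 * a ^ 3 + 54 * b * a ^ 2 * c) +
        -72 * (n.choose 5 : F) * (b ^ 2 * a ^ 3)) := by
  intro n
  induction n with
  | zero => simp [V6, M4, xr_zero]
  | succ n ih =>
    obtain ⟨h2, h3, h4, h5, h6⟩ := choose_facts (F := F) n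
    rw [pow_succ, ih, V6_mul]
    simp only [Nat.choose_succ_succ, Nat.choose_one_right, Nat.cast_add, Nat.cast_one, Nat.succ_eq_add_one,
      show Nat.succ 0 = 1 from rfl]
    congr 1
    · ring
    · ring
    · ring
    · linear_combination (-(b * a ^ 2)) * h2
    · linear_combination (b * a ^ 3) * h3 + (3 * b * a ^ 3) * h2
    · linear_combination (-(2 * b ^ 2 * a ^ 3)) * h3 + (-(3 * b ^ 2 * a ^ 3)) * h5 +
        (3 * c * b * a ^ 2) * h3 + (-(3 * a * c ^ 2) + 6 * a ^ 2 * b * c + 3 * b * a ^ 2 * c - 3 * b ^ 2 * a ^ 3) * h2 +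
        (6 * a ^ 2 * b * c - 6 * b ^ 2 * a ^ 3) * h4 + (-(3 * b ^ 2 * a ^ 3)) * h6

theorem mem_U_V6 {g : GL Cfsg.Lie.chevG2.Idx F} (hg : g ∈ Cfsg.Lie.chevG2.posUnipotent F) :
    ∃ b a c d e f, g = (V6 (F := F) b a c d e f : GG F).1 := by
  rw [CfsgLib.Chev.chevG2.posUnipotent_eq_US] at hg
  classical
  obtain ⟨v, rfl⟩ := (CfsgLib.Chev.chevG2.mem_US_iff (fun _ h => h) CfsgLib.Chev.chevG2.closed_pos).1 hg
  have hL : (CfsgLib.Chev.Chev.rootList (D := Cfsg.Lie.chevG2) fun r => CfsgLib.Chev.chevG2.toTables.Pos r) =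
      [(6 : Fin 12), 7, 8, 9, 10, 11] := by
    show (List.finRange 12).filter (fun r => decide (12 ≤ 2 * r.val)) = _
    decide +kernel
  refine ⟨v (6 : Fin 12), v (7 : Fin 12), v (8 : Fin 12), v (9 : Fin 12), v (10 : Fin 12), v (11 : Fin 12), ?_⟩
  rw [CfsgLib.Chev.Chev.prodL, hL]
  have key : ∀ {α : Type} {M : Type _} [Monoid M] (h : α → M) (x1 x2 x3 x4 x5 x6 : α),
      ([x1, x2, x3, x4, x5, x6].map h).prod = h x1 * (h x2 * (h x3 * (h x4 * (h x5 * h x6)))) := by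
    intro α M _ h x1 x2 x3 x4 x5 x6
    simp
  refine (key (fun r => CfsgLib.Chev.chevG2.toAlg.xg r (v r)) _ _ _ _ _ _).trans ?_
  simp [V6, M4, CfsgLib.G2Deg.xr_val, mul_assoc]

theorem V6_one_iff {b a c d e f : F} (h : V6 b a c d e f = 1) : b = 0 ∧ a = 0 ∧ c = 0 ∧ d = 0 ∧ e = 0 ∧ f = 0 := by
  have h' := congrArg Subtype.val h
  refine CfsgLib.Chev.chevG2.word_inj (F := F) (b' := 0) (a' := 0) (c' := 0) (d' := 0) (e' := 0) (f' := 0) ?_
  rw [CfsgLib.Chev.chevG2.word_zero]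
  simp [V6, M4, CfsgLib.G2Deg.xr_val, CfsgLib.Chev.Chev.word, mul_assoc] at h' ⊢
  exact h'

variable (p : ℕ) [Fact p.Prime] [CharP F p]

/-- A power of the characteristic that exceeds five kills every unipotent element. -/
theorem unip_pow [Finite F] {g : GL Cfsg.Lie.chevG2.Idx F} (hg : g ∈ Cfsg.Lie.chevG2.group F) {k : ℕ}
    (hk : g ^ p ^ k = 1) {e : ℕ} (he : 5 < p ^ e) : g ^ p ^ e = 1 := by
  obtain ⟨x, -, hxU⟩ := CfsgLib.Chev.chevG2.exists_conj_mem_U p hg hk
  obtain ⟨b, a, c, d, e', f, hx⟩ := mem_U_V6 hxU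
  have hc : ∀ i, 1 ≤ i → i ≤ 5 → ((p ^ e).choose i : F) = 0 := fun i h1 h5 =>
    (CharP.cast_eq_zero_iff F p _).2 ((Fact.out : p.Prime).dvd_choose_pow (by omega) (by omega))
  have hp : ((p ^ e : ℕ) : F) = 0 := by simpa using hc 1 le_rfl (by norm_num)
  have h : (V6 b a c d e' f : GG F) ^ p ^ e = 1 := by
    rw [V6_pow, hp, hc 2 (by norm_num) (by norm_num), hc 3 (by norm_num) (by norm_num), hc 4 (by norm_num) (by norm_num),
      hc 5 (by norm_num) le_rfl]
    simp [V6, M4, xr_zero]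
  have := congrArg Subtype.val h
  rw [SubmonoidClass.coe_pow, ← hx, OneMemClass.coe_one, conj_pow, conj_eq_one_iff] at this
  exact this

end CfsgLib.G2Spec
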