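import Cfsg.Agent.Lib.G2Spec.Semisimple
import Cfsg.Agent.Lib.G2Spec.Unip
import Cfsg.Agent.Lib.G22.Main

/-!
The orders of the elements of the group of type G2.
-/

set_option autoImplicit false
set_option linter.dupNamespace false
set_option linter.unusedSectionVars false
set_option maxRecDepth 100000
set_option maxHeartbeats 1000000

namespace CfsgLib.G2Spec

open Cfsg.Lie Matrix CfsgLib.Chev CfsgLib.Chev.Chev CfsgLib.G2Odd
open CfsgLib.G2SL3 (coords rep)

local notation "Φ" => CfsgLib.Chev.chevG2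
local notation "G2gp" => Cfsg.Lie.chevG2.group
local notation "I2" => Cfsg.Lie.chevG2.Idx

variable {F : Type*} [Field F] [Fintype F] (p : ℕ) [Fact p.Prime] [CharP F p]

theorem pow_eq_one_of_tc {x : GL I2 F} {g : GL I2 (AlgebraicClosure F)} {c : Fin 2 → (AlgebraicClosure F)ˣ}
    (h : g * up F x * g⁻¹ = tc c) (n : ℕ) : x ^ n = 1 ↔ c ^ n = 1 := by
  constructor
  · intro hx
    refine tc_injective ?_
    rw [← tc_pow, ← h, conj_pow, ← map_pow, hx, map_one, mul_one, mul_inv_cancel, tc_one]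
  · intro hc
    refine up_injective ?_
    rw [map_one, map_pow, ← conj_eq_one_iff (a := g), ← conj_pow, h, tc_pow, hc, tc_one]

theorem nat_of_zpow {M : Type*} [CommGroup M] {c : Fin 2 → M} {N : ℕ} {Z : ℤ} (hN : (N : ℤ) = Z)
    (h : ∀ i, c i ^ Z = 1) : c ^ N = 1 :=
  funext fun i => by rw [Pi.pow_apply, ← zpow_natCast, hN, h]; rfl

variable (F) in
theorem q_facts : 2 ≤ Fintype.card F ∧ Fintype.card F ≤ Fintype.card F ^ 2 ∧ 1 ≤ Fintype.card F ^ 2 := by
  refine ⟨Fintype.one_lt_card, Nat.le_self_pow (by norm_num) _, Nat.one_le_pow _ _ Fintype.card_pos⟩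

/-- Every element order. -/
theorem order_cases {x : GL I2 F} (hx : x ∈ G2gp F) {e : ℕ} (he : 5 < p ^ e) :
    orderOf x ∣ Fintype.card F ^ 2 - 1 ∨ orderOf x ∣ Fintype.card F ^ 2 + Fintype.card F + 1 ∨
      orderOf x ∣ Fintype.card F ^ 2 - Fintype.card F + 1 ∨ orderOf x ∣ p ^ e ∨
      orderOf x ∣ p * (Fintype.card F + 1) ∨ orderOf x ∣ p * (Fintype.card F - 1) ∨ (p = 2 ∧ orderOf x ∣ 12) := by
  classical
  have hp : p.Prime := Fact.out
  obtain ⟨hq2, hqq, hq1⟩ := q_facts F
  set q := Fintype.card F with hq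
  have hn0 : orderOf x ≠ 0 := (isOfFinOrder_of_finite x).orderOf_pos.ne'
  obtain ⟨k, m, hm, hn⟩ := Nat.exists_eq_pow_mul_and_not_dvd hn0 p hp.ne_one
  set s := x ^ p ^ k with hs
  set u := x ^ m with hu
  have hpk : 0 < p ^ k := pow_pos hp.pos k
  have hso : orderOf s = m := by
    rw [hs, orderOf_pow_of_dvd hpk.ne' (hn ▸ dvd_mul_right _ _), hn, Nat.mul_div_cancel_left _ hpk]
  have huk : u ^ p ^ k = 1 := by rw [hu, ← pow_mul, mul_comm, ← hn, pow_orderOf_eq_one]
  have hsG : s ∈ G2gp F := pow_mem hx _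
  have huG : u ∈ G2gp F := pow_mem hx _
  obtain ⟨g, hg, c, hc, a, b, hab, hrel, -⟩ := exists_rel_of p hsG (by rwa [hso])
  have hsN : ∀ N : ℕ, c ^ N = 1 → s ^ N = 1 := fun N h => (pow_eq_one_of_tc hc N).2 h
  by_cases hu1 : u = 1
  · have key : ∀ N : ℕ, c ^ N = 1 → orderOf x ∣ N := fun N h => by
      have h1 : orderOf x ∣ m := orderOf_dvd_of_pow_eq_one hu1
      have h2 : m ∣ N := hso ▸ orderOf_dvd_of_pow_eq_one (hsN N h)
      exact h1.trans h2
    rcases hrel.order hab with h | ⟨-, -, h⟩ | ⟨-, -, h⟩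
    · exact Or.inl (key _ (nat_of_zpow (by push_cast [hq1]; ring) h))
    · exact Or.inr (Or.inl (key _ (nat_of_zpow (by push_cast; ring) h)))
    · exact Or.inr (Or.inr (Or.inl (key _ (nat_of_zpow (by push_cast [hqq]; ring) h))))
  · have hxd : ∀ M E : ℕ, s ^ M = 1 → u ^ E = 1 → orderOf x ∣ M * E := fun M E h1 h2 => by
      have hco : Nat.Coprime (p ^ k) m := ((hp.coprime_iff_not_dvd).2 hm).pow_left k
      have ha : m ∣ M := hso ▸ orderOf_dvd_of_pow_eq_one h1
      have hb : p ^ k ∣ E := by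
        have h3 : x ^ (m * E) = 1 := by rw [pow_mul]; exact h2
        have h4 := orderOf_dvd_of_pow_eq_one h3
        rw [hn] at h4
        exact hco.dvd_of_dvd_mul_left ((dvd_mul_right _ _).trans h4)
      rw [hn, mul_comm]
      exact mul_dvd_mul ha hb
    by_cases hs1 : s = 1
    · refine Or.inr (Or.inr (Or.inr (Or.inl ?_)))
      simpa using hxd 1 (p ^ e) (by rw [hs1, one_pow]) (unip_pow p huG huk he)
    · have : CharP (AlgebraicClosure F) p :=
        charP_of_injective_algebraMap (algebraMap F (AlgebraicClosure F)).injective p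
      have hc1 : c ≠ 1 := fun h => hs1 (by simpa using hsN 1 (by rw [h, one_pow]))
      have hcomm : Commute (tc c) (g * up F u * g⁻¹) := by
        rw [← hc]
        exact (((Commute.refl x).pow_pow _ _).map (up F)).map (MulAut.conj g)
      obtain ⟨⟨r, hr⟩, hu'⟩ := unip_of_commute p hc1 (mul_mem (mul_mem hg (up_mem huG)) (inv_mem hg)) hcomm
        (k := k) (by rw [conj_pow, ← map_pow, huk, map_one, mul_one, mul_inv_cancel])
        (fun h => hu1 (up_injective ((conj_eq_one_iff.1 h).trans (map_one _).symm)))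
      have hup : ∀ E : ℕ, (g * up F u * g⁻¹) ^ E = 1 → u ^ E = 1 := fun E h => by
        rw [conj_pow, conj_eq_one_iff, ← map_pow] at h
        exact up_injective (h.trans (map_one _).symm)
      rcases hu' with h | ⟨h2, h4, h3⟩
      · have hu'' := hup p h
        have hcase : c ^ (q + 1) = 1 ∨ c ^ (q - 1) = 1 := by
          rcases hrel.order_of_root hab hr with h' | h' | h'
          · exact Or.inr (nat_of_zpow (by push_cast [show 1 ≤ q by omega]; ring) h')
          · exact Or.inl (nat_of_zpow (by push_cast; ring) h')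
          · have h3 : c ^ 3 = 1 := nat_of_zpow (by norm_num) h'
            have hm3 : m ∣ 3 := hso ▸ orderOf_dvd_of_pow_eq_one (hsN 3 h3)
            rcases (Nat.dvd_prime Nat.prime_three).1 hm3 with e' | e'
            · exact absurd (orderOf_eq_one_iff.1 (hso.trans e')) hs1
            have hp3 : ¬ 3 ∣ q := by
              obtain ⟨a', -, ha'⟩ := FiniteField.card F p
              rw [hq, ha']
              intro h
              exact hm (by rw [e', (Nat.prime_dvd_prime_iff_eq Nat.prime_three hp).1 (Nat.prime_three.dvd_of_dvd_pow h)])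
            rcases (show 3 ∣ q + 1 ∨ 3 ∣ q - 1 by omega) with ⟨t, ht⟩ | ⟨t, ht⟩
            · exact Or.inl (by rw [ht, pow_mul, h3, one_pow])
            · exact Or.inr (by rw [ht, pow_mul, h3, one_pow])
        rcases hcase with h' | h'
        · exact Or.inr (Or.inr (Or.inr (Or.inr (Or.inl (mul_comm (q + 1) p ▸ hxd _ _ (hsN _ h') hu'')))))
        · exact Or.inr (Or.inr (Or.inr (Or.inr (Or.inr (Or.inl (mul_comm (q - 1) p ▸ hxd _ _ (hsN _ h') hu''))))))
      · exact Or.inr (Or.inr (Or.inr (Or.inr (Or.inr (Or.inr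
          ⟨h2, by simpa using hxd 3 4 (hsN 3 h3) (hup 4 h4)⟩)))))

theorem mem_range_of_dvd {x : GL I2 F} (hx : x ∈ G2gp F) {n : ℕ} (h : n ∣ orderOf x) :
    n ∈ Set.range (orderOf : ↥(G2gp F) → ℕ) := by
  have e : orderOf (⟨x, hx⟩ : ↥(G2gp F)) = orderOf x := (orderOf_injective (G2gp F).subtype Subtype.coe_injective _).symm
  refine ⟨(⟨x, hx⟩ : ↥(G2gp F)) ^ (orderOf (⟨x, hx⟩ : ↥(G2gp F)) / n), ?_⟩
  exact orderOf_pow_orderOf_div (G := ↥(G2gp F)) (orderOf_pos _).ne' (h.trans e.symm.dvd)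

include p in
/-- The two cyclic tori. -/
theorem cyclic_torus (h4 : 4 ≤ Fintype.card F) {N : ℕ} {τ : ℤ} (hτ : τ = 1 ∨ τ = -1)
    (hN : (N : ℤ) = (Fintype.card F : ℤ) ^ 2 - (Fintype.card F : ℤ) * τ + 1) :
    ∃ x ∈ G2gp F, N ∣ orderOf x := by
  classical
  have hp : p.Prime := Fact.out
  set q := Fintype.card F with hq
  obtain ⟨a', -, ha'⟩ := FiniteField.card F p
  have hN' : (N : ℤ) ≥ 13 := by rw [hN]; rcases hτ with rfl | rfl <;> nlinarith
  have hpN : ¬ p ∣ N := by
    intro hd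
    have hq' : (p : ℤ) ∣ (q : ℤ) := by exact_mod_cast (hq ▸ ha' ▸ dvd_pow_self p a'.ne_zero)
    have : (p : ℤ) ∣ 1 := by
      have h1 : (p : ℤ) ∣ (N : ℤ) - ((q : ℤ) - τ) * q :=
        dvd_sub (Int.natCast_dvd_natCast.2 hd) (dvd_mul_of_dvd_right hq' _)
      rwa [hN, show (q : ℤ) ^ 2 - q * τ + 1 - ((q : ℤ) - τ) * q = 1 by ring] at h1
    exact hp.not_dvd_one (by exact_mod_cast this)
  have h9 : ¬ 9 ∣ N := by
    intro hd
    have h9 : (9 : ℤ) ∣ (q : ℤ) ^ 2 - q * τ + 1 := hN ▸ by exact_mod_cast hd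
    have key : ∀ z : ZMod 9, z ^ 2 + z + 1 ≠ 0 ∧ z ^ 2 - z + 1 ≠ 0 := by decide
    have hz := (ZMod.intCast_zmod_eq_zero_iff_dvd _ 9).2 h9
    push_cast at hz
    rcases hτ with rfl | rfl
    · exact (key (q : ZMod 9)).2 (by simpa using hz)
    · exact (key (q : ZMod 9)).1 (by simpa using hz)
  obtain ⟨l, hl, hlN, hl3⟩ : ∃ l, l.Prime ∧ l ∣ N ∧ l ≠ 3 := by
    by_cases h3 : 3 ∣ N
    · obtain ⟨M, hM⟩ := h3
      obtain ⟨l, hl, hlM⟩ := Nat.exists_prime_and_dvd (n := M) (by omega)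
      exact ⟨l, hl, hM ▸ dvd_mul_of_dvd_right hlM 3, fun e => h9 (hM ▸ mul_dvd_mul_left 3 (e ▸ hlM))⟩
    · obtain ⟨l, hl, hlN⟩ := Nat.exists_prime_and_dvd (n := N) (by omega)
      exact ⟨l, hl, hlN, fun e => h3 (e ▸ hlN)⟩
  have hlN' : (l : ℤ) ∣ (q : ℤ) ^ 2 - q * τ + 1 := hN ▸ Int.natCast_dvd_natCast.2 hlN
  have hl2 : l ≠ 2 := by
    rintro rfl
    have h2 : (2 : ℤ) ∣ (q : ℤ) ^ 2 - q * τ + 1 := hlN'
    have key : ∀ z : ZMod 2, z ^ 2 + z + 1 ≠ 0 ∧ z ^ 2 - z + 1 ≠ 0 := by decide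
    have hz := (ZMod.intCast_zmod_eq_zero_iff_dvd _ 2).2 h2
    push_cast at hz
    rcases hτ with rfl | rfl
    · exact (key (q : ZMod 2)).2 (by simpa using hz)
    · exact (key (q : ZMod 2)).1 (by simpa using hz)
  have hlZ : ∀ {Z : ℤ}, (l : ℤ) ∣ Z → ∀ {k : ℕ}, k.Prime → Z = k → l = k := fun {Z} h {k} hk e =>
    (Nat.prime_dvd_prime_iff_eq hl hk).1 (Int.natCast_dvd_natCast.1 (e ▸ h))
  have hlP : Prime (l : ℤ) := Nat.prime_iff_prime_int.1 hl
  have hlq : ¬ (l : ℤ) ∣ (q : ℤ) ^ 2 - 1 := by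
    intro h
    have h2 : (l : ℤ) ∣ 2 - (q : ℤ) * τ := by
      have := dvd_sub hlN' h
      rwa [show (q : ℤ) ^ 2 - q * τ + 1 - ((q : ℤ) ^ 2 - 1) = 2 - q * τ by ring] at this
    have h3 : (l : ℤ) ∣ 3 := by
      have := dvd_sub (dvd_mul_of_dvd_left h2 (2 + (q : ℤ) * τ)) (h.neg_right)
      rcases hτ with rfl | rfl
      · rwa [show (2 - (q : ℤ) * 1) * (2 + q * 1) - -((q : ℤ) ^ 2 - 1) = 3 by ring] at this
      · rwa [show (2 - (q : ℤ) * -1) * (2 + q * -1) - -((q : ℤ) ^ 2 - 1) = 3 by ring] at this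
    exact hl3 (hlZ h3 Nat.prime_three rfl)
  have hcard := CfsgLib.Chev.G2Alt.card_G (F := F)
  rw [Nat.card_eq_fintype_card (α := F), ← hq] at hcard
  have hldiv : l ∣ Nat.card ↥(G2gp F) := by
    rw [hcard]
    refine dvd_mul_of_dvd_right (dvd_mul_of_dvd_right (Int.natCast_dvd_natCast.1 ?_) _) _
    rw [Nat.cast_sub (Nat.one_le_pow _ _ Fintype.card_pos)]
    push_cast
    rw [show (q : ℤ) ^ 6 - 1 = ((q : ℤ) ^ 2 - 1) * (((q : ℤ) ^ 2 + q + 1) * ((q : ℤ) ^ 2 - q + 1)) by ring]
    refine dvd_mul_of_dvd_right ?_ _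
    rcases hτ with rfl | rfl
    · exact dvd_mul_of_dvd_right (by simpa using hlN') _
    · exact dvd_mul_of_dvd_left (by simpa using hlN') _
  have := Fact.mk hl
  obtain ⟨x0, hx0⟩ := exists_prime_orderOf_dvd_card' (G := ↥(G2gp F)) l hldiv
  have hx0' : orderOf x0.1 = l := (orderOf_injective (G2gp F).subtype Subtype.coe_injective x0).trans hx0
  obtain ⟨g, hg, c, hc, a, b, hab, hrel, hdesc⟩ := exists_rel_of p x0.2 (by
    rw [hx0']
    exact fun h => hpN ((Nat.prime_dvd_prime_iff_eq hp hl).1 h ▸ hlN))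
  have hcl : ∀ Z : ℤ, (∀ i, c i ^ Z = 1) → (l : ℤ) ∣ Z := fun Z h => by
    have : c ^ Z.natAbs = 1 := funext fun i => pow_natAbs_eq_one.2 (h i)
    exact Int.natCast_dvd.2 (hx0' ▸ orderOf_dvd_of_pow_eq_one ((pow_eq_one_of_tc hc _).2 this))
  have htd : tr a b = τ ∧ dt a b = 1 := by
    have hboth : ∀ σ : ℤ, σ = 1 ∨ σ = -1 → (l : ℤ) ∣ (q : ℤ) ^ 2 - q * σ + 1 → σ = τ := fun σ hσ h => by
      by_contra hne
      have h2 : (l : ℤ) ∣ 2 * q := by
        have := dvd_sub hlN' h
        rcases hσ with rfl | rfl <;> rcases hτ with rfl | rfl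
        · exact absurd rfl hne
        · rwa [show (q : ℤ) ^ 2 - q * -1 + 1 - ((q : ℤ) ^ 2 - q * 1 + 1) = 2 * q by ring] at this
        · rw [show (q : ℤ) ^ 2 - q * 1 + 1 - ((q : ℤ) ^ 2 - q * -1 + 1) = -(2 * q) by ring] at this
          exact Int.dvd_neg.1 this
        · exact absurd rfl hne
      rcases hlP.dvd_or_dvd h2 with h | h
      · exact hl2 (hlZ h Nat.prime_two rfl)
      · have : (l : ℤ) ∣ 1 := by
          have := dvd_sub hlN' (dvd_mul_of_dvd_left h ((q : ℤ) - τ))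
          rwa [show (q : ℤ) ^ 2 - q * τ + 1 - q * ((q : ℤ) - τ) = 1 by ring] at this
        exact hl.not_dvd_one (Int.natCast_dvd_natCast.1 this)
    rcases hrel.order hab with h | ⟨e, d, h⟩ | ⟨e, d, h⟩
    · exact absurd (hcl _ h) hlq
    · exact ⟨e.trans (hboth (-1) (Or.inr rfl) (by rw [show (q : ℤ) ^ 2 - q * -1 + 1 = (q : ℤ) ^ 2 + q + 1 by ring]; exact hcl _ h)), d⟩
    · exact ⟨e.trans (hboth 1 (Or.inl rfl) (by rw [mul_one]; exact hcl _ h)), d⟩
  have hreg : ∀ r, ev c r ≠ 1 := by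
    intro r hr
    rcases hrel.order_of_root hab hr with h | h | h
    · exact hlq ((hcl _ h).trans (Dvd.intro ((q : ℤ) + 1) (by ring)))
    · exact hlq ((hcl _ h).trans (Dvd.intro ((q : ℤ) - 1) (by ring)))
    · exact hl3 (hlZ (hcl _ h) Nat.prime_three rfl)
  have : CharP (AlgebraicClosure F) p := charP_of_injective_algebraMap (algebraMap F (AlgebraicClosure F)).injective p
  have : NeZero (N : AlgebraicClosure F) := ⟨by rwa [Ne, CharP.cast_eq_zero_iff (AlgebraicClosure F) p]⟩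
  have hNpos : 0 < N := by omega
  obtain ⟨ζ, hζ⟩ := IsAlgClosed.exists_root (Polynomial.cyclotomic N (AlgebraicClosure F))
    (by rw [Polynomial.degree_cyclotomic]; exact_mod_cast (Nat.totient_pos.2 hNpos).ne')
  have hprim : IsPrimitiveRoot ζ N := Polynomial.isRoot_cyclotomic_iff.1 hζ
  obtain ⟨A, rfl⟩ := hprim.isUnit hNpos.ne'
  have hA : orderOf A = N := by rw [← orderOf_units, ← hprim.eq_orderOf]
  obtain ⟨d, hd, hd0⟩ := exists_rel (q := (q : ℤ)) hab htd.2 (by rw [htd.1]; exact hτ) (A := A)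
    (by rw [htd.1, ← hN, zpow_natCast, ← hA, pow_orderOf_eq_one])
  obtain ⟨y, hy, hyd⟩ := hdesc hreg d hd
  refine ⟨y, hy, ?_⟩
  have hqN : Nat.Coprime q N := by
    rw [hq, ha']
    exact (hp.coprime_iff_not_dvd.2 hpN).pow_left _
  have h1 : (d ^ orderOf y) 0 = 1 := congrFun ((pow_eq_one_of_tc hyd _).1 (pow_orderOf_eq_one y)) 0
  rw [Pi.pow_apply] at h1
  have h2 : A ^ (q * orderOf y) = 1 := by
    rcases hd0 with e | e <;> rw [e, zpow_natCast] at h1
    · rw [pow_mul]; exact h1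
    · rw [inv_pow, inv_eq_one] at h1
      rw [pow_mul]; exact h1
  exact hqN.symm.dvd_of_dvd_mul_left (hA ▸ orderOf_dvd_of_pow_eq_one h2)

include p in
/-- A cyclic group of order `q² - 1` in the general linear group. -/
theorem exists_GL_order : ∃ A : GL (Fin 2) F, orderOf A = Fintype.card F ^ 2 - 1 := by
  classical
  let E := FiniteField.Extension F p 2
  have : Fintype E := Fintype.ofFinite E
  have hcard : Nat.card Eˣ = Fintype.card F ^ 2 - 1 := by
    rw [Nat.card_units, Nat.card_eq_fintype_card (α := E), Module.card_eq_pow_finrank (K := F) (V := E),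
      FiniteField.finrank_extension]
  obtain ⟨z, hz⟩ := IsCyclic.exists_generator (α := Eˣ)
  let bs : Module.Basis (Fin 2) F E := Module.finBasisOfFinrankEq F E (FiniteField.finrank_extension F p 2)
  refine ⟨Units.map (Algebra.leftMulMatrix bs).toRingHom.toMonoidHom z, ?_⟩
  rw [orderOf_injective _ (Units.map_injective (Algebra.leftMulMatrix_injective bs)) z,
    orderOf_eq_card_of_forall_mem_zpowers hz, hcard]

include p in
theorem torus_sq : ∃ x ∈ G2gp F, Fintype.card F ^ 2 - 1 ∣ orderOf x := by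
  obtain ⟨A, hA⟩ := exists_GL_order p (F := F)
  set δ := GeneralLinearGroup.det A
  let y : Pair F := ⟨(A, diagOne δ), mem_Pair.2 (det_diagOne δ).symm⟩
  refine ⟨Xi Φ y, Xi_mem_group Φ y, hA ▸ orderOf_dvd_of_pow_eq_one ?_⟩
  set n := orderOf (Xi Φ y)
  have h : y ^ n ∈ (Xi Φ (F := F)).ker := by rw [MonoidHom.mem_ker, map_pow, pow_orderOf_eq_one]
  rw [ker_Xi] at h
  obtain ⟨a, ha⟩ := h
  let f : Fˣ →* GL (Fin 2) F :=
    { toFun := diagOne, map_one' := Units.ext (by simp [diagOne, Matrix.one_fin_two]),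
      map_mul' := fun u v => Units.ext (by simp [diagOne]) }
  have h2 : diagOne (δ ^ n) = scalarGL F a := by
    have := congrArg (fun z : Pair F => z.1.2) ha
    exact (f.map_pow δ n).trans this.symm
  have ha1 : a = 1 := by
    have h11 := congrArg (fun M : GL (Fin 2) F => M.1 1 1) h2
    simp [diagOne, scalarGL] at h11
    exact Units.ext (by simpa using h11.symm)
  have h1 := congrArg (fun z : Pair F => z.1.1) ha
  rw [ha1, map_one] at h1
  exact h1.symm

include p in
theorem mixed (δ : Bool) : ∃ x ∈ G2gp F, p * (if δ then Fintype.card F + 1 else Fintype.card F - 1) ∣ orderOf x := by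
  classical
  have hp : p.Prime := Fact.out
  set q := Fintype.card F with hq
  obtain ⟨a', -, ha'⟩ := FiniteField.card F p
  have hq2 : 2 ≤ q := Fintype.one_lt_card
  set n := if δ then q + 1 else q - 1 with hn
  have hdiv : ∃ k, q ^ 2 - 1 = n * k ∧ 0 < k := by
    rcases δ with _ | _
    · exact ⟨q + 1, by simp [hn]; rw [show q ^ 2 - 1 = (q + 1) * (q - 1) by simpa using Nat.sq_sub_sq q 1, mul_comm], by omega⟩
    · exact ⟨q - 1, by simp [hn]; simpa using Nat.sq_sub_sq q 1, by omega⟩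
  obtain ⟨h, hh⟩ : ∃ h : SpecialLinearGroup (Fin 2) F, orderOf h = n := by
    rcases δ with _ | _
    · obtain ⟨z, hz⟩ := IsCyclic.exists_generator (α := Fˣ)
      let f : Fˣ →* SpecialLinearGroup (Fin 2) F :=
        { toFun := fun a => ⟨!![(a : F), 0; 0, ((a⁻¹ : Fˣ) : F)], by simp [Matrix.det_fin_two]⟩
          map_one' := Subtype.ext (by simp [Matrix.one_fin_two])
          map_mul' := fun a b => Subtype.ext (by
            show _ = !![(a : F), 0; 0, ((a⁻¹ : Fˣ) : F)] * !![(b : F), 0; 0, ((b⁻¹ : Fˣ) : F)]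
            simp [Matrix.mul_fin_two, mul_comm]) }
      refine ⟨f z, ?_⟩
      rw [orderOf_injective f (fun a b e => Units.ext (congrFun (congrFun (congrArg Subtype.val e) 0) 0)) z,
        orderOf_eq_card_of_forall_mem_zpowers hz, Nat.card_units, Nat.card_eq_fintype_card (α := F)]
      simp [hn, hq]
    · obtain ⟨A, hA⟩ := exists_GL_order p (F := F)
      have hdet : GeneralLinearGroup.det (A ^ (q - 1)) = 1 := by
        rw [map_pow]
        refine Units.ext ?_
        rw [Units.val_pow_eq_pow_val, Units.val_one]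
        exact FiniteField.pow_card_sub_one_eq_one _ (Units.ne_zero _)
      refine ⟨⟨(A ^ (q - 1)).1, congrArg Units.val hdet⟩, ?_⟩
      rw [← orderOf_injective (SpecialLinearGroup.toGL : SpecialLinearGroup (Fin 2) F →* GL (Fin 2) F)
        (fun a b e => Subtype.ext (congrArg Units.val e)) ⟨(A ^ (q - 1)).1, congrArg Units.val hdet⟩,
        show SpecialLinearGroup.toGL (⟨(A ^ (q - 1)).1, congrArg Units.val hdet⟩ : SpecialLinearGroup (Fin 2) F) =
          A ^ (q - 1) from Units.ext rfl,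
        orderOf_pow' _ (by omega), hA, ← hq,
        show q ^ 2 - 1 = (q + 1) * (q - 1) by simpa using Nat.sq_sub_sq q 1, Nat.gcd_mul_left_left,
        Nat.mul_div_cancel _ (by omega)]
      simp [hn]
  have hu : orderOf (RankOne.u (1 : F)) = p := by
    refine orderOf_eq_prime ?_ fun e => one_ne_zero (α := F) (congrFun (congrFun (congrArg Subtype.val e) 0) 1)
    refine Subtype.ext ?_
    have hN : ((RankOne.u (1 : F)).1 - 1) ^ 2 = 0 := by
      ext i j
      fin_cases i <;> fin_cases j <;> simp [RankOne.u, pow_two, Matrix.mul_apply, Fin.sum_univ_two]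
    have := pow_eq_zero_of_le hp.two_le hN
    rw [sub_pow_char_of_commute (p := p) (Commute.one_right _), one_pow, sub_eq_zero] at this
    rw [Matrix.SpecialLinearGroup.coe_pow, this, Matrix.SpecialLinearGroup.coe_one]
  refine ⟨phi Φ (R 6) (RankOne.u 1) * phi Φ (R 9) h,
    mul_mem (phi_mem_group Φ _ _) (phi_mem_group Φ _ _), ?_⟩
  have hcop : Nat.Coprime p n := by
    refine hp.coprime_iff_not_dvd.2 fun hd => ?_
    obtain ⟨k, hk, -⟩ := hdiv
    have h1 : p ∣ q ^ 2 - 1 := hk ▸ hd.trans (dvd_mul_right n k)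
    have h2 : p ∣ q ^ 2 := hq ▸ ha' ▸ (dvd_pow_self p a'.ne_zero).trans (dvd_pow_self _ two_ne_zero)
    have h3 := Nat.dvd_sub h2 h1
    rw [show q ^ 2 - (q ^ 2 - 1) = 1 by have := Nat.one_le_pow 2 q (by omega); omega] at h3
    exact hp.not_dvd_one h3
  rw [(phi_comm Φ _ _).orderOf_mul_eq_mul_orderOf_of_coprime (by
    rwa [orderOf_injective _ (phi_six_injective Φ), orderOf_injective _ (phi_nine_injective Φ), hu, hh]),
    orderOf_injective _ (phi_six_injective Φ), orderOf_injective _ (phi_nine_injective Φ), hu, hh]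

/-- The regular unipotent element. -/
theorem regular_unip {e : ℕ} (he : p ^ e = 4 ∨ p ^ e = 3 ∨ p ^ e = 5) :
    ∃ x ∈ G2gp F, p ^ (e + 1) ∣ orderOf x := by
  have hp : p.Prime := Fact.out
  set v : CfsgLib.G2Deg.GG F := V6 1 1 0 0 0 0 with hv
  refine ⟨v.1, v.2, ?_⟩
  have hne : v ^ p ^ e ≠ 1 := by
    intro h
    rw [hv, V6_pow] at h
    obtain ⟨-, -, -, hd, -, hf⟩ := V6_one_iff h
    have hch : ∀ z : ℤ, (z : F) = 0 → (p : ℤ) ∣ z := fun z hz => (CharP.intCast_eq_zero_iff F p z).1 hz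
    rcases he with he | he | he <;> rw [he] at hd hf
    · have h2 : p = 2 := (Nat.prime_dvd_prime_iff_eq hp Nat.prime_two).1
        (hp.dvd_of_dvd_pow (n := 2) (by
          have : e ≠ 0 := fun h0 => by rw [h0] at he; norm_num at he
          exact (dvd_pow_self p this).trans (by rw [he]; norm_num)))
      subst h2
      have := hch (-355) (by
        rw [show Nat.choose 4 2 = 6 from rfl, show Nat.choose 4 3 = 4 from rfl, show Nat.choose 4 4 = 1 from rfl,
          show Nat.choose 4 5 = 0 from rfl] at hf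
        push_cast at hf ⊢
        linear_combination hf)
      norm_num at this
    · have h3 : p = 3 := (Nat.prime_dvd_prime_iff_eq hp Nat.prime_three).1
        ((dvd_pow_self p (fun h0 => by rw [h0] at he; norm_num at he : e ≠ 0)).trans he.dvd)
      subst h3
      have := hch (-13) (by
        rw [show Nat.choose 3 2 = 3 from rfl, show Nat.choose 3 3 = 1 from rfl] at hd
        push_cast at hd ⊢
        linear_combination hd)
      norm_num at this
    · have h5 : p = 5 := (Nat.prime_dvd_prime_iff_eq hp (by norm_num)).1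
        ((dvd_pow_self p (fun h0 => by rw [h0] at he; norm_num at he : e ≠ 0)).trans he.dvd)
      subst h5
      have := hch (-1227) (by
        rw [show Nat.choose 5 2 = 10 from rfl, show Nat.choose 5 3 = 10 from rfl, show Nat.choose 5 4 = 5 from rfl,
          show Nat.choose 5 5 = 1 from rfl] at hf
        push_cast at hf ⊢
        linear_combination hf)
      norm_num at this
  obtain ⟨k, hk⟩ : ∃ k, v ^ p ^ k = 1 := by
    refine ⟨3, ?_⟩
    have h5 : 5 < p ^ 3 := by have := Nat.pow_le_pow_left hp.two_le 3; omega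
    have hc : ∀ i, 1 ≤ i → i ≤ 5 → ((p ^ 3).choose i : F) = 0 := fun i h1 h5' =>
      (CharP.cast_eq_zero_iff F p _).2 (hp.dvd_choose_pow (by omega) (by omega))
    have hz : ((p ^ 3 : ℕ) : F) = 0 := by simpa using hc 1 le_rfl (by norm_num)
    rw [hv, V6_pow, hz, hc 2 (by norm_num) (by norm_num), hc 3 (by norm_num) (by norm_num),
      hc 4 (by norm_num) (by norm_num), hc 5 (by norm_num) le_rfl]
    simp [V6, M4, CfsgLib.G2Deg.xr_zero]
  rw [show orderOf v.1 = orderOf v from orderOf_injective (G2gp F).subtype Subtype.coe_injective v]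
  obtain ⟨j, -, hj⟩ := (Nat.dvd_prime_pow hp).1 (orderOf_dvd_of_pow_eq_one hk)
  rw [hj]
  refine pow_dvd_pow p ?_
  by_contra hlt
  exact hne (orderOf_dvd_iff_pow_eq_one.1 (hj ▸ pow_dvd_pow p (by omega)))

omit [Fintype F] in
/-- An element of order twelve. -/
theorem twelve [CharP F 2] : ∃ x ∈ G2gp F, orderOf x = 12 := by
  open CfsgLib.G22 in
  obtain ⟨x, hx, -⟩ := word_rows [0, 2, 9] (by decide)
  let φ : GL I2 (ZMod 2) →* GL I2 F := Matrix.GeneralLinearGroup.map (ZMod.castHom dvd_rfl F)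
  have hφ : Function.Injective φ := fun a b h =>
    Units.ext (Matrix.map_injective (ZMod.castHom dvd_rfl F).injective (congrArg Units.val h))
  refine ⟨φ x.1, (Φ).map_mem_group _ x.2, ?_⟩
  have hM : Function.Injective (G22.toM) := G22.toM_injective
  rw [orderOf_injective φ hφ, show orderOf x.1 = orderOf x from
    orderOf_injective (G2gp (ZMod 2)).subtype Subtype.coe_injective x, ← orderOf_injective G22.toM hM, hx]
  set w := G22.wordRows [0, 2, 9] with hw
  have hlen : w.length = 14 := by rw [hw]; decide +kernel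
  have hm : ∀ {A B : List ℕ}, A.length = 14 → G22.dec (G22.mul2 A B) = G22.dec A * G22.dec B :=
    fun h => G22.dec_mul2 h _
  let r : ℕ → List ℕ := fun n => Nat.rec G22.one2 (fun _ A => G22.mul2 w A) n
  have hr : ∀ n, G22.dec w ^ n = G22.dec (r n) := by
    intro n
    induction n with
    | zero => rw [pow_zero]; exact G22.dec_one2.symm
    | succ n ih => rw [pow_succ', ih, ← hm hlen]
  have h12 : G22.dec w ^ 12 = 1 := by
    rw [hr, ← G22.dec_one2, show r 12 = G22.one2 by simp only [r, hw]; decide +kernel]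
  have hne : ∀ n, n = 4 ∨ n = 6 → G22.dec w ^ n ≠ 1 := by
    intro n hn h
    rw [hr] at h
    rcases hn with rfl | rfl
    · revert h; simp only [r, hw]; decide +kernel
    · revert h; simp only [r, hw]; decide +kernel
  have hd := orderOf_dvd_of_pow_eq_one h12
  have h4 : ¬ orderOf (G22.dec w) ∣ 4 := fun h => hne 4 (Or.inl rfl) (orderOf_dvd_iff_pow_eq_one.1 h)
  have h6 : ¬ orderOf (G22.dec w) ∣ 6 := fun h => hne 6 (Or.inr rfl) (orderOf_dvd_iff_pow_eq_one.1 h)
  have hle := Nat.le_of_dvd (by norm_num) hd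
  interval_cases hn : orderOf (G22.dec w) <;> omega

end CfsgLib.G2Spec
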