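import Cfsg.Agent.Lib.G2Spec.Elem
import Cfsg.Agent.Lib.G2Odd.Main
import Cfsg.Agent.Lib.AltSection.G2
import Cfsg.Agent.Lib.Chev.FieldFixed
import Cfsg.Agent.Lib.SLCard

/-!
Semisimple elements: conjugate into the torus over the algebraic closure, with the action of Frobenius.
-/

set_option autoImplicit false
set_option linter.dupNamespace false
set_option linter.unusedSectionVars false
set_option maxRecDepth 100000

namespace CfsgLib.G2Spec

open Cfsg.Lie Matrix CfsgLib.Chev CfsgLib.Chev.Chev CfsgLib.G2Odd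
open CfsgLib.G2SL3 (coords rep)

local notation "Φ" => CfsgLib.Chev.chevG2
local notation "G2gp" => Cfsg.Lie.chevG2.group
local notation "N2" => Cfsg.Lie.chevG2.monomialSubgroup
local notation "I2" => Cfsg.Lie.chevG2.Idx
local notation "H2" => Cfsg.Lie.chevG2.diagonalSubgroup

/-- Conjugate torus elements are related by a monomial element. -/
theorem exists_mono_of_conj {K : Type*} [Field K] {m : GL I2 K} (hm : m ∈ G2gp K) {c c' : Fin 2 → Kˣ}
    (h : m * tc c * m⁻¹ = tc c') : ∃ n ∈ N2 K, ∃ π ∈ (Φ).W, (Φ).Mono n π ∧ n * tc c * n⁻¹ = tc c' := by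
  obtain ⟨b, hb, n, hn, π, hπ, hmo, u, hu, rfl⟩ := (Φ).exists_normal_form hm
  refine ⟨n, hn, π, WL_le_W hπ, hmo, ?_⟩
  set t := tc c with ht
  set t' := tc c' with ht'
  have hH : t' * n * t⁻¹ * n⁻¹ ∈ H2 K := by
    rw [show t' * n * t⁻¹ * n⁻¹ = t' * (n * t⁻¹ * n⁻¹) by group]
    exact mul_mem (tc_mem_H c') ((Φ).H_conj_mem hn (inv_mem (tc_mem_H c)))
  have htb : t' * b * t'⁻¹ * (t' * n * t⁻¹ * n⁻¹) ∈ Cfsg.Lie.chevG2.borelSubgroup K :=
    mul_mem (mul_mem (mul_mem (H_le_B (tc_mem_H c')) hb) (inv_mem (H_le_B (tc_mem_H c')))) (H_le_B hH)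
  have htu : t * u * t⁻¹ ∈ (Φ).Uneg K π :=
    (Subgroup.mem_normalizer_iff.1 ((Φ).H_le_normalizer_US _ (tc_mem_H c)) u).1 hu
  have e : t' * b * t'⁻¹ * (t' * n * t⁻¹ * n⁻¹) * n * (t * u * t⁻¹) = b * n * u := by
    calc _ = t' * (b * n * u) * t⁻¹ := by group
      _ = _ := by rw [← h]; group
  obtain ⟨e1, -⟩ := (Φ).normal_form_unique hmo htb hb htu hu e
  obtain ⟨v, hv, x, hx, rfl⟩ := (Φ).mem_B_iff.1 hb
  have hv' : t' * v * t'⁻¹ ∈ Cfsg.Lie.chevG2.posUnipotent K :=
    (Subgroup.mem_normalizer_iff.1 ((Φ).H_le_normalizer_U (tc_mem_H c')) v).1 hv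
  have htx : t' * x * t'⁻¹ = x := by rw [((Φ).H_comm (tc_mem_H c') hx).eq, mul_inv_cancel_right]
  have e3 : t' * v * t'⁻¹ * (x * (t' * n * t⁻¹ * n⁻¹)) = v * x := by
    conv_rhs => rw [← e1]
    calc _ = t' * v * t'⁻¹ * ((t' * x * t'⁻¹) * (t' * n * t⁻¹ * n⁻¹)) := by rw [htx]
      _ = _ := by group
  have hUN : v⁻¹ * (t' * v * t'⁻¹) = x * (x * (t' * n * t⁻¹ * n⁻¹))⁻¹ := by
    calc v⁻¹ * (t' * v * t'⁻¹)
        = v⁻¹ * (t' * v * t'⁻¹ * (x * (t' * n * t⁻¹ * n⁻¹))) * (x * (t' * n * t⁻¹ * n⁻¹))⁻¹ := by group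
      _ = _ := by rw [e3]; group
  have hv1 := (Φ).eq_one_of_mem_U_of_mem_N (mul_mem (inv_mem hv) hv')
    (hUN ▸ H_le_N (mul_mem hx (inv_mem (mul_mem hx hH))))
  rw [(inv_mul_eq_one.1 hv1).symm] at e3
  have h1 : t' * n * t⁻¹ * n⁻¹ = 1 := by simpa using mul_left_cancel e3
  calc n * t * n⁻¹ = (t' * n * t⁻¹ * n⁻¹)⁻¹ * t' := by group
    _ = t' := by rw [h1]; group

section

variable {E : Type*} [Field E] [Fintype E]

theorem index_SR (hSR : SR E ≤ G2gp E) :
    ((SR E).subgroupOf (G2gp E)).index = Fintype.card E ^ 3 * (Fintype.card E ^ 3 + 1) := by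
  have h := ((SR E).subgroupOf (G2gp E)).card_mul_index
  have hS : Nat.card ((SR E).subgroupOf (G2gp E)) = Nat.card (SpecialLinearGroup (Fin 3) E) := by
    rw [Nat.card_congr (Subgroup.subgroupOfEquivOfLe hSR).toEquiv]
    exact Nat.card_congr (MonoidHom.ofInjective CfsgLib.G2SL3.rep_injective).toEquiv.symm
  rw [hS, CfsgLib.Chev.G2Alt.card_G, Nat.card_eq_fintype_card (α := E)] at h
  have h3 := CfsgLib.SLCard.card_units_mul_card_SL (F := E) (n := 3) (by norm_num)
  rw [Matrix.card_GL_field] at h3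
  simp only [Fin.prod_univ_three, Fin.val_zero, Fin.val_one, Fin.val_two, pow_zero, pow_one] at h3
  set q := Fintype.card E
  set S := Nat.card (SpecialLinearGroup (Fin 3) E)
  obtain ⟨r, hr⟩ : ∃ r, q = r + 2 := ⟨q - 2, by have := Fintype.one_lt_card (α := E); omega⟩
  have h2 : 1 ≤ q := by omega
  refine Nat.eq_of_mul_eq_mul_left (show 0 < (q - 1) * S from Nat.mul_pos (by omega) Nat.card_pos) ?_
  rw [mul_assoc, h, h3]
  have a1 : 1 ≤ q ^ 2 := Nat.one_le_pow _ _ (by omega)
  have a2 : 1 ≤ q ^ 3 := Nat.one_le_pow _ _ (by omega)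
  have a3 : 1 ≤ q ^ 6 := Nat.one_le_pow _ _ (by omega)
  have a4 : q ≤ q ^ 3 := Nat.le_self_pow (by norm_num) q
  have a5 : q ^ 2 ≤ q ^ 3 := Nat.pow_le_pow_right (by omega) (by norm_num)
  zify [h2, a1, a2, a3, a4, a5]
  ring

/-- An element of odd prime order dividing the order of the split torus lies, up to conjugation, in the image
of the special linear group. -/
theorem exists_conj_SR {l : ℕ} (hl : l.Prime) (hl2 : l ≠ 2) (hdvd : l ∣ Fintype.card E - 1) {x : GL I2 E}
    (hx : x ∈ G2gp E) (hxl : x ^ l = 1) : ∃ g ∈ G2gp E, g * x * g⁻¹ ∈ SR E := by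
  have := Fact.mk hl
  have hSR : SR E ≤ G2gp E := by
    rintro _ ⟨y, rfl⟩
    exact CfsgLib.G2SL3.rep_mem_group y
  set S := (SR E).subgroupOf (G2gp E) with hS
  have hidx : ¬ l ∣ S.index := by
    rw [hS, index_SR hSR]
    set q := Fintype.card E
    have h1 : 1 ≤ q := Fintype.card_pos
    have hq : q ≡ 1 [MOD l] := ((Nat.modEq_iff_dvd' h1).2 hdvd).symm
    have hm : q ^ 3 * (q ^ 3 + 1) ≡ 2 [MOD l] := by simpa using (hq.pow 3).mul ((hq.pow 3).add_right 1)
    intro hd
    exact hl2 ((Nat.prime_dvd_prime_iff_eq hl Nat.prime_two).1 ((Nat.ModEq.dvd_iff hm dvd_rfl).1 hd))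
  obtain ⟨P⟩ : Nonempty (Sylow l ↥S) := inferInstance
  have hP : IsPGroup l ((P : Subgroup ↥S).map S.subtype) := P.2.map _
  have hPi : ¬ l ∣ ((P : Subgroup ↥S).map S.subtype).index := by
    rw [Subgroup.index_map_subtype]
    exact fun h => (hl.dvd_mul.1 h).elim P.not_dvd_index hidx
  let P' : Sylow l ↥(G2gp E) := hP.toSylow hPi
  let x' : ↥(G2gp E) := ⟨x, hx⟩
  have hz : IsPGroup l (Subgroup.zpowers x') := by
    have h1 : orderOf x' ∣ l ^ 1 := orderOf_dvd_of_pow_eq_one (Subtype.ext (by simpa [x'] using hxl))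
    obtain ⟨j, -, hj⟩ := (Nat.dvd_prime_pow hl).1 h1
    exact IsPGroup.of_card (n := j) (by rw [Nat.card_zpowers, hj])
  obtain ⟨Q, hQ⟩ := hz.exists_le_sylow
  obtain ⟨g, hg⟩ := MulAction.exists_smul_eq ↥(G2gp E) Q P'
  refine ⟨g, g.2, ?_⟩
  have hmem : g * x' * g⁻¹ ∈ (P' : Subgroup ↥(G2gp E)) := by
    rw [← hg, Sylow.smul_def, Sylow.pointwise_smul_def]
    exact ⟨x', hQ (Subgroup.mem_zpowers x'), rfl⟩
  obtain ⟨y, -, hy⟩ := hmem
  exact (show ((g * x' * g⁻¹ : ↥(G2gp E)) : GL I2 E) ∈ SR E from hy ▸ y.2)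

end

variable {F : Type*} [Field F]

/-- Extension of scalars to the algebraic closure. -/
noncomputable abbrev up (F : Type*) [Field F] : GL I2 F →* GL I2 (AlgebraicClosure F) :=
  Matrix.GeneralLinearGroup.map (algebraMap F (AlgebraicClosure F))

theorem up_injective : Function.Injective (up F) := fun a b h =>
  Units.ext (Matrix.map_injective (algebraMap F (AlgebraicClosure F)).injective (congrArg Units.val h))

theorem up_mem {x : GL I2 F} (hx : x ∈ G2gp F) : up F x ∈ G2gp (AlgebraicClosure F) := (Φ).map_mem_group _ hx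

variable [Fintype F] (p : ℕ) [Fact p.Prime] [CharP F p]

/-- An element of prime order is conjugate into the torus over the algebraic closure. -/
theorem exists_torus_prime {x : GL I2 F} (hx : x ∈ G2gp F) {l : ℕ} (hl : l.Prime) (hlp : l ≠ p)
    (hxo : orderOf x = l) : ∃ g ∈ G2gp (AlgebraicClosure F), ∃ c, g * up F x * g⁻¹ = tc c := by
  have hp : p.Prime := Fact.out
  set q := Fintype.card F with hq
  obtain ⟨a, -, ha⟩ := FiniteField.card F p
  rcases eq_or_ne l 2 with rfl | hl2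
  · have hodd : Odd q := by rw [hq, ha]; exact (hp.odd_of_ne_two fun h => hlp h.symm).pow
    have ho : orderOf (⟨x, hx⟩ : ↥(G2gp F)) = 2 := by
      rw [← orderOf_injective (G2gp F).subtype Subtype.coe_injective]; exact hxo
    obtain ⟨u, hu⟩ := isConj_zG Φ hodd _ ho
    have e : (u : ↥(G2gp F)) * zG Φ * (↑u⁻¹ : ↥(G2gp F)) = ⟨x, hx⟩ := by
      rw [hu.eq, mul_assoc]; simp
    refine ⟨(up F ((u : ↥(G2gp F)) : GL I2 F))⁻¹, inv_mem (up_mem (u : ↥(G2gp F)).2),
      fun i => Units.map (algebraMap F (AlgebraicClosure F)).toMonoidHom (zc F i), ?_⟩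
    have e' : x = (u : ↥(G2gp F)).1 * zel Φ * ((u : ↥(G2gp F)).1)⁻¹ := by
      have := congrArg Subtype.val e
      simpa [zG, zel] using this.symm
    rw [e', map_mul, map_mul, map_inv, inv_inv]
    simp only [mul_assoc, inv_mul_cancel, mul_one, inv_mul_cancel_left]
    exact (Φ).map_torus (algebraMap F (AlgebraicClosure F)) (zc F)
  · have hxl : x ^ l = 1 := hxo ▸ pow_orderOf_eq_one x
    have : NeZero (l - 1) := ⟨by have := hl.two_le; omega⟩
    let E := FiniteField.Extension F p (l - 1)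
    have : Fintype E := Fintype.ofFinite E
    have hcard : Fintype.card E = q ^ (l - 1) := by
      rw [Module.card_eq_pow_finrank (K := F) (V := E), FiniteField.finrank_extension]
    have hdvd : l ∣ Fintype.card E - 1 := by
      rw [hcard]
      have hcop : q.Coprime l := by
        rw [hq, ha]
        exact Nat.Coprime.pow_left _ ((Nat.coprime_primes hp hl).2 fun h => hlp h.symm)
      have := Nat.ModEq.pow_totient hcop
      rw [Nat.totient_prime hl] at this
      exact (Nat.modEq_iff_dvd' (Nat.one_le_pow _ _ Fintype.card_pos)).1 this.symm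
    let f : E →+* AlgebraicClosure F := (IsAlgClosed.lift : E →ₐ[F] AlgebraicClosure F).toRingHom
    have hf : ∀ z : F, f (algebraMap F E z) = algebraMap F _ z := fun z =>
      (IsAlgClosed.lift : E →ₐ[F] AlgebraicClosure F).commutes z
    let e1 := Matrix.GeneralLinearGroup.map (n := I2) (algebraMap F E)
    obtain ⟨g, hg, hS⟩ := exists_conj_SR hl hl2 hdvd ((Φ).map_mem_group (algebraMap F E) hx)
      (by rw [← map_pow, hxl, map_one])
    let e2 := Matrix.GeneralLinearGroup.map (n := I2) f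
    have he : e2 (e1 x) = up F x := Units.ext (Matrix.ext fun i j => hf (x.1 i j))
    obtain ⟨y, hy⟩ := hS
    have hmem : e2 g * up F x * (e2 g)⁻¹ ∈ SR (AlgebraicClosure F) := by
      refine ⟨Matrix.SpecialLinearGroup.map f y, ?_⟩
      rw [← CfsgLib.G2SL3.rep_map, hy, ← he, map_mul, map_mul, map_inv]
    have hlK : (l : AlgebraicClosure F) ≠ 0 := by
      have := charP_of_injective_algebraMap (algebraMap F (AlgebraicClosure F)).injective p
      rw [Ne, CharP.cast_eq_zero_iff (AlgebraicClosure F) p]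
      exact fun h => hlp ((Nat.prime_dvd_prime_iff_eq hp hl).1 h).symm
    obtain ⟨m, hm, c, hc⟩ := torus_conj_SR hmem hlK
      (by rw [conj_pow, ← map_pow, hxl, map_one, mul_one, mul_inv_cancel])
    exact ⟨m * e2 g, mul_mem hm ((Φ).map_mem_group f hg), c, by rw [conj_conj, hc]⟩

/-- A semisimple element is conjugate into the torus over the algebraic closure. -/
theorem exists_torus {x : GL I2 F} (hx : x ∈ G2gp F) (hpx : ¬ p ∣ orderOf x) :
    ∃ g ∈ G2gp (AlgebraicClosure F), ∃ c, g * up F x * g⁻¹ = tc c := by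
  have hfin : IsOfFinOrder x := isOfFinOrder_of_finite x
  set n := orderOf x with hn
  have hn0 : 0 < n := hfin.orderOf_pos
  by_cases h1 : n = 1
  · exact ⟨1, one_mem _, 1, by rw [orderOf_eq_one_iff.1 h1, map_one, tc_one]; group⟩
  obtain ⟨l, hl, hln⟩ := Nat.exists_prime_and_dvd h1
  have hy : orderOf (x ^ (n / l)) = l := orderOf_pow_orderOf_div hn0.ne' hln
  obtain ⟨g, hg, c, hc⟩ := exists_torus_prime p (pow_mem hx _) hl (fun h => hpx (h ▸ hln)) hy
  have hc1 : c ≠ 1 := fun e => hl.one_lt.ne' (by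
    rw [e, tc_one, conj_eq_one_iff] at hc
    rw [← hy, orderOf_eq_one_iff]
    exact up_injective (hc.trans (map_one _).symm))
  have hcomm : Commute (tc c) (g * up F x * g⁻¹) := by
    rw [← hc]
    exact ((Commute.pow_self x _).map (up F)).map (MulAut.conj g)
  have hnK : (n : AlgebraicClosure F) ≠ 0 := by
    have := charP_of_injective_algebraMap (algebraMap F (AlgebraicClosure F)).injective p
    rwa [Ne, CharP.cast_eq_zero_iff (AlgebraicClosure F) p]
  obtain ⟨m, hm, c', h'⟩ := torus_conj_of_commute hc1 (mul_mem (mul_mem hg (up_mem hx)) (inv_mem hg)) hcomm hnK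
    (by rw [conj_pow, ← map_pow, hn, pow_orderOf_eq_one, map_one, mul_one, mul_inv_cancel])
  exact ⟨m * g, mul_mem hm hg, c', by rw [conj_conj, h']⟩

include p in
theorem exists_frobenius : ∃ σ : AlgebraicClosure F ≃+* AlgebraicClosure F,
    (∀ x, σ x = x ^ Fintype.card F) ∧ ∀ x, σ x = x ↔ x ∈ Set.range (algebraMap F (AlgebraicClosure F)) := by
  classical
  have := charP_of_injective_algebraMap (algebraMap F (AlgebraicClosure F)).injective p
  obtain ⟨a, -, ha⟩ := FiniteField.card F p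
  refine ⟨iterateFrobeniusEquiv (AlgebraicClosure F) p a, fun x => by rw [coe_iterateFrobeniusEquiv, iterateFrobenius_def, ha],
    fun x => ?_⟩
  rw [show iterateFrobeniusEquiv (AlgebraicClosure F) p a x = x ^ Fintype.card F by
    rw [coe_iterateFrobeniusEquiv, iterateFrobenius_def, ha]]
  constructor
  · intro hx
    let f : Polynomial (AlgebraicClosure F) := Polynomial.X ^ Fintype.card F - Polynomial.X
    have hf : f ≠ 0 := FiniteField.X_pow_card_sub_X_ne_zero _ Fintype.one_lt_card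
    let S : Finset (AlgebraicClosure F) := Finset.univ.map ⟨algebraMap F _, (algebraMap F _).injective⟩
    have hsub : S ⊆ f.roots.toFinset := by
      intro y hy
      obtain ⟨z, -, rfl⟩ := Finset.mem_map.1 hy
      simp [f, hf, ← map_pow, FiniteField.pow_card, Polynomial.mem_roots hf]
    have heq : S = f.roots.toFinset := Finset.eq_of_subset_of_card_le hsub (by
      refine (Multiset.toFinset_card_le _).trans ((Polynomial.card_roots' f).trans ?_)
      simp [S, f, FiniteField.X_pow_card_sub_X_natDegree_eq _ Fintype.one_lt_card])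
    have : x ∈ S := by
      rw [heq, Multiset.mem_toFinset, Polynomial.mem_roots hf]
      simp [f, hx]
    obtain ⟨z, -, hz⟩ := Finset.mem_map.1 this
    exact ⟨z, hz⟩
  · rintro ⟨z, rfl⟩
    rw [← map_pow, FiniteField.pow_card]

theorem ev_pow {M : Type*} [CommGroup M] (c : Fin 2 → M) (q : ℕ) (r : Fin 12) : ev (c ^ q) r = ev c r ^ q := by
  simp only [ev, evL, Pi.pow_apply, mul_pow]
  congr 1 <;> rw [← zpow_natCast, ← zpow_natCast, ← _root_.zpow_mul, ← _root_.zpow_mul, mul_comm]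

/-- The Frobenius relation of a semisimple element, and descent of the twisted torus when it is regular. -/
theorem exists_rel_of {x : GL I2 F} (hx : x ∈ G2gp F) (hpx : ¬ p ∣ orderOf x) :
    ∃ g ∈ G2gp (AlgebraicClosure F), ∃ c, g * up F x * g⁻¹ = tc c ∧
      ∃ a b, Lin a b ∧ Rel c (Fintype.card F : ℤ) a b ∧ ((∀ r, ev c r ≠ 1) → ∀ d : Fin 2 → (AlgebraicClosure F)ˣ,
        Rel d (Fintype.card F : ℤ) a b → ∃ y ∈ G2gp F, g * up F y * g⁻¹ = tc d) := by
  obtain ⟨g, hg, c, hc⟩ := exists_torus p hx hpx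
  obtain ⟨σ, hσ, hfix⟩ := exists_frobenius p (F := F)
  set S := Matrix.GeneralLinearGroup.map (n := I2) σ.toRingHom with hS
  set q := Fintype.card F with hq
  have hSx : ∀ z, S (up F z) = up F z := fun z => Units.ext (Matrix.ext fun i j => (hfix _).2 ⟨_, rfl⟩)
  have hSt : ∀ d, S (tc d) = tc (d ^ q) := fun d => by
    refine ((Φ).map_torus σ.toRingHom d).trans ?_
    show tc _ = _
    congr 1
    funext i
    exact Units.ext ((hσ (d i)).trans (Units.val_pow_eq_pow_val (d i) q).symm)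
  set m := S g * g⁻¹ with hm
  have hmG : m ∈ G2gp (AlgebraicClosure F) := mul_mem ((Φ).map_mem_group _ hg) (inv_mem hg)
  have hconj : m * tc c * m⁻¹ = tc (c ^ q) := by
    rw [← hSt, ← hc, map_mul, map_mul, map_inv, hSx, hm]
    group
  obtain ⟨n, hn, π, hπ, hmo, hn'⟩ := exists_mono_of_conj hmG hconj
  refine ⟨g, hg, c, hc, π (R 7), π (R 6), lin_of_W hπ, rel_of_W hπ fun r => ?_, fun hreg d hd => ?_⟩
  · have := conj_tc hmo hn' r
    rw [zpow_natCast, ← this]
    exact (((congrArg (· ^ q) (chi_ev c (π r))).trans (ev_pow c q (π r)).symm).trans (chi_ev (c ^ q) (π r)).symm)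
  have hmd : m * tc d * m⁻¹ = tc (d ^ q) := by
    have hnm : Commute (tc c) (n⁻¹ * m) := by
      show tc c * (n⁻¹ * m) = n⁻¹ * m * tc c
      calc tc c * (n⁻¹ * m) = n⁻¹ * (n * tc c * n⁻¹) * m := by group
        _ = n⁻¹ * (m * tc c * m⁻¹) * m := by rw [hn', hconj]
        _ = _ := by group
    have hH := mem_H_of_regular hreg (mul_mem (inv_mem ((Φ).N_le_group hn)) hmG) hnm
    obtain ⟨d'', hd''⟩ := exists_conj_tc hn d
    have e1 : m * tc d * m⁻¹ = n * tc d * n⁻¹ := by
      calc m * tc d * m⁻¹ = n * ((n⁻¹ * m) * tc d * (n⁻¹ * m)⁻¹) * n⁻¹ := by group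
        _ = _ := by rw [((Φ).H_comm hH (tc_mem_H d)).eq, mul_inv_cancel_right]
    rw [e1, hd'']
    congr 1
    have key : ∀ s : Fin 12, ev d'' s = ev (d ^ q) s := fun s => by
      obtain ⟨r, hr⟩ := π.surjective (R s)
      have h1 := conj_tc hmo hd'' r
      rw [hr] at h1
      have h2 := hd r
      rw [← (img_of_W hπ r).1, ← (img_of_W hπ r).2] at h2
      change ev d (π (R r)) ^ (q : ℤ) = ev d r at h2
      rw [show π (R r) = π r from rfl, hr, zpow_natCast, ← ev_pow] at h2
      exact ((chi_ev d'' s).symm.trans (h1.trans (chi_ev d r))).trans h2.symm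
    funext i
    fin_cases i
    · simpa [ev_seven] using key 7
    · simpa [ev_six] using key 6
  have hy : g⁻¹ * tc d * g ∈ G2gp (AlgebraicClosure F) :=
    mul_mem (mul_mem (inv_mem hg) ((Φ).N_le_group (H_le_N (tc_mem_H d)))) hg
  have hyfix : Matrix.GeneralLinearGroup.map σ.toRingHom (g⁻¹ * tc d * g) = g⁻¹ * tc d * g := by
    rw [← hS, map_mul, map_mul, map_inv, hSt, ← hmd, hm]
    group
  obtain ⟨y, hy', hye⟩ := (Φ).exists_of_fixed σ (algebraMap F (AlgebraicClosure F)) hfix (fun e => by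
    have := tc_mem_H (F := F) e
    rw [(Φ).diagonalSubgroup_eq, MonoidHom.mem_range] at this
    obtain ⟨e', he'⟩ := this
    exact ⟨e', (Φ).torus_injective he'⟩) hy hyfix
  refine ⟨y, hy', ?_⟩
  show g * Matrix.GeneralLinearGroup.map _ y * g⁻¹ = _
  rw [hye]
  group

end CfsgLib.G2Spec
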