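import Mathlib
import Cfsg.Agent.Lib.G2SL3.Hom

/-!
Integer facts about the twelve roots of type G2 and characters fixed, or multiplied by `q`, under a Weyl element.
-/

set_option autoImplicit false

namespace CfsgLib.G2Spec

open CfsgLib.G2SL3 (coords)

/-- The short roots. -/
def Short (r : Fin 12) : Prop := r = 2 ∨ r = 3 ∨ r = 4 ∨ r = 7 ∨ r = 8 ∨ r = 9

instance : DecidablePred Short := fun r => inferInstanceAs (Decidable (_ ∨ _))

/-- The coordinates of the image of a root under the linear map with the given images of the simple roots. -/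
def img (a b s : Fin 12) (j : Fin 2) : ℤ := coords s 0 * coords a j + coords s 1 * coords b j

/-- The pairs of images of the simple roots that define symmetries of the root system. -/
def Lin (a b : Fin 12) : Prop := ∀ s : Fin 12, ∃ t : Fin 12, coords t 0 = img a b s 0 ∧ coords t 1 = img a b s 1

instance (a b : Fin 12) : Decidable (Lin a b) := inferInstanceAs (Decidable (∀ s : Fin 12, ∃ t : Fin 12, _))

/-- The trace. -/
def tr (a b : Fin 12) : ℤ := coords a 0 + coords b 1

/-- The determinant of two coordinate vectors. -/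
def dt (r s : Fin 12) : ℤ := coords r 0 * coords s 1 - coords r 1 * coords s 0

theorem lin_cases : ∀ a b : Fin 12, Lin a b →
    (dt a b = -1 ∧ tr a b = 0) ∨ (dt a b = 1 ∧ ((a = 7 ∧ b = 6) ∨ (a = 4 ∧ b = 5) ∨ tr a b = 1 ∨ tr a b = -1)) := by
  decide +kernel

theorem reflection_root : ∀ a b : Fin 12, Lin a b → dt a b = -1 →
    ∃ s r : Fin 12, img a b s 0 - coords s 0 = coords r 0 ∧ img a b s 1 - coords s 1 = coords r 1 ∧
      (Short r ∨ (a = 8 ∧ b = 5) ∨ (a = 2 ∧ b = 11) ∨ (a = 7 ∧ b = 1)) := by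
  decide +kernel

theorem rotation_three : ∀ a b : Fin 12, Lin a b → tr a b = -1 → dt a b = 1 →
    (a = 2 ∧ b = 10) ∨ (a = 8 ∧ b = 0) := by
  decide +kernel

theorem rotation_seven : ∀ a b : Fin 12, Lin a b → dt a b = 1 → (tr a b = 1 ∨ tr a b = -1) →
    (coords a 1 = 1 ∨ coords a 1 = -1) := by
  decide +kernel

theorem stab_nine : ∀ a b : Fin 12, Lin a b →
    (img a b 9 0 = coords 9 0 ∧ img a b 9 1 = coords 9 1 ∨ img a b 9 0 = coords 2 0 ∧ img a b 9 1 = coords 2 1) →
    (a = 7 ∧ b = 6) ∨ (a = 3 ∧ b = 6) ∨ (a = 8 ∧ b = 5) ∨ (a = 4 ∧ b = 5) := by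
  decide +kernel

theorem dt_nine : ∀ r : Fin 12, r = 9 ∨ r = 2 ∨ r = 6 ∨ r = 5 ∨ dt 9 r = 1 ∨ dt 9 r = -1 := by
  decide +kernel

theorem exists_basis : ∀ r : Fin 12, ∃ x : Fin 12, dt r x = 1 := by
  decide +kernel

theorem dt_image : ∀ a b r : Fin 12, Lin a b →
    let d := coords r 0 * img a b r 1 - coords r 1 * img a b r 0
    d = 1 ∨ d = -1 ∨ d = 3 ∨ d = -3 ∨ (d = 0 ∧ ∀ x : Fin 12, dt r x = 1 →
      (coords r 0 * img a b x 1 - coords r 1 * img a b x 0 = 1 ∨
        coords r 0 * img a b x 1 - coords r 1 * img a b x 0 = -1)) := by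
  decide +kernel

section Chars

variable {M : Type*} [CommGroup M] (c : Fin 2 → M)

/-- The value of a character at a lattice vector. -/
def evL (x y : ℤ) : M := c 0 ^ x * c 1 ^ y

/-- The value of a character at a root. -/
def ev (r : Fin 12) : M := evL c (coords r 0) (coords r 1)

theorem ev_seven : ev c 7 = c 0 := by simp [ev, evL, coords]

theorem ev_six : ev c 6 = c 1 := by simp [ev, evL, coords]

theorem evL_zero : evL c 0 0 = 1 := by simp [evL]

theorem evL_sub (x y x' y' : ℤ) : evL c (x - x') (y - y') = evL c x y / evL c x' y' := by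
  simp only [evL, zpow_sub, div_eq_mul_inv, mul_inv]
  rw [mul_mul_mul_comm]

theorem evL_cross (r0 r1 x0 x1 : ℤ) : c 0 ^ (r0 * x1 - r1 * x0) = evL c r0 r1 ^ x1 / evL c x0 x1 ^ r1 ∧
    c 1 ^ (r0 * x1 - r1 * x0) = evL c x0 x1 ^ r0 / evL c r0 r1 ^ x0 := by
  constructor <;>
  · simp only [evL, mul_zpow, ← zpow_mul, div_eq_mul_inv, mul_inv, ← zpow_neg]
    rw [mul_mul_mul_comm, ← zpow_add, ← zpow_add]
    ring_nf
    simp

/-- Two roots killed by a character bound its order. -/
theorem pow_dt {x0 x1 y0 y1 : ℤ} (h1 : evL c x0 x1 = 1) (h2 : evL c y0 y1 = 1) (i : Fin 2) :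
    c i ^ (x0 * y1 - x1 * y0) = 1 := by
  obtain ⟨e0, e1⟩ := evL_cross c x0 x1 y0 y1
  fin_cases i
  · simpa [h1, h2] using e0
  · simpa [h1, h2] using e1

variable {a b : Fin 12} (hab : Lin a b)

/-- The relation between a character and its image under a Weyl element. -/
def Rel (q : ℤ) (a b : Fin 12) : Prop := ∀ s : Fin 12, evL c (img a b s 0) (img a b s 1) ^ q = ev c s

omit c in
theorem img_gen (j : Fin 2) : img a b 7 j = coords a j ∧ img a b 6 j = coords b j := by
  simp [img, show coords 7 0 = 1 from rfl, show coords 7 1 = 0 from rfl, show coords 6 0 = 0 from rfl,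
    show coords 6 1 = 1 from rfl]

variable {c} {q : ℤ}

theorem Rel.gen (h : Rel c q a b) : ev c a ^ q = c 0 ∧ ev c b ^ q = c 1 := by
  refine ⟨?_, ?_⟩
  · have := h 7
    rwa [(img_gen 0).1, (img_gen 1).1, ev_seven] at this
  · have := h 6
    rwa [(img_gen 0).2, (img_gen 1).2, ev_six] at this

theorem Rel.zpow_eq (h : Rel c q a b) (i : Fin 2) : c i ^ (1 - q * tr a b + q ^ 2 * dt a b) = 1 := by
  obtain ⟨hA, hB⟩ := h.gen
  simp only [ev, evL, mul_zpow, ← zpow_mul] at hA hB
  set a0 := coords a 0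
  set a1 := coords a 1
  set b0 := coords b 0
  set b1 := coords b 1
  have h1 : evL c (a0 * q - 1) (a1 * q) = 1 := by
    rw [evL, zpow_sub_one, mul_right_comm, hA, mul_inv_cancel]
  have h2 : evL c (b0 * q) (b1 * q - 1) = 1 := by
    rw [evL, zpow_sub_one, ← mul_assoc, hB, mul_inv_cancel]
  have := pow_dt c h1 h2 i
  rwa [show (a0 * q - 1) * (b1 * q - 1) - a1 * q * (b0 * q) = 1 - q * tr a b + q ^ 2 * dt a b by
    simp only [tr, dt, a0, a1, b0, b1]; ring] at this

include hab

/-- The possible orders. -/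
theorem Rel.order (h : Rel c q a b) :
    (∀ i, c i ^ (q ^ 2 - 1) = 1) ∨
      (tr a b = -1 ∧ dt a b = 1 ∧ ∀ i, c i ^ (q ^ 2 + q + 1) = 1) ∨
      (tr a b = 1 ∧ dt a b = 1 ∧ ∀ i, c i ^ (q ^ 2 - q + 1) = 1) := by
  have hz := h.zpow_eq
  rcases lin_cases a b hab with ⟨hd, ht⟩ | ⟨hd, ⟨rfl, rfl⟩ | ⟨rfl, rfl⟩ | ht | ht⟩
  · refine Or.inl fun i => ?_
    have := hz i
    rw [hd, ht, show 1 - q * 0 + q ^ 2 * -1 = -(q ^ 2 - 1) by ring, zpow_neg, inv_eq_one] at this
    exact this
  · refine Or.inl fun i => ?_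
    obtain ⟨h0, h1⟩ := h.gen
    rw [ev_seven] at h0
    rw [ev_six] at h1
    rw [show q ^ 2 - 1 = (q - 1) * (q + 1) by ring, zpow_mul]
    fin_cases i <;> simp [zpow_sub_one, h0, h1]
  · refine Or.inl fun i => ?_
    obtain ⟨h0, h1⟩ := h.gen
    have e0 : (c 0)⁻¹ ^ q = c 0 := by simpa [ev, evL, coords] using h0
    have e1 : (c 1)⁻¹ ^ q = c 1 := by simpa [ev, evL, coords] using h1
    rw [inv_zpow, inv_eq_iff_eq_inv] at e0 e1
    rw [show q ^ 2 - 1 = (q + 1) * (q - 1) by ring, zpow_mul]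
    fin_cases i <;> simp [zpow_add_one, e0, e1]
  · refine Or.inr (Or.inr ⟨ht, hd, fun i => ?_⟩)
    have := hz i
    rwa [hd, ht, show 1 - q * 1 + q ^ 2 * 1 = q ^ 2 - q + 1 by ring] at this
  · refine Or.inr (Or.inl ⟨ht, hd, fun i => ?_⟩)
    have := hz i
    rwa [hd, ht, show 1 - q * -1 + q ^ 2 * 1 = q ^ 2 + q + 1 by ring] at this

/-- A character killing a root. -/
theorem Rel.order_of_root (h : Rel c q a b) {r : Fin 12} (hr : ev c r = 1) :
    (∀ i, c i ^ (q - 1) = 1) ∨ (∀ i, c i ^ (q + 1) = 1) ∨ (∀ i, c i ^ (3 : ℤ) = 1) := by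
  have hr' : evL c (img a b r 0) (img a b r 1) ^ q = 1 := (h r).trans hr
  have hd := dt_image a b r hab
  simp only at hd
  have hp : ∀ i, c i ^ (q * (coords r 0 * img a b r 1 - coords r 1 * img a b r 0)) = 1 := fun i => by
    have e : evL c (img a b r 0 * q) (img a b r 1 * q) = 1 := by
      rwa [evL, zpow_mul, zpow_mul, ← mul_zpow]
    have := pow_dt c hr e i
    rwa [show coords r 0 * (img a b r 1 * q) - coords r 1 * (img a b r 0 * q) =
      q * (coords r 0 * img a b r 1 - coords r 1 * img a b r 0) by ring] at this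
  have hfull : ∀ k : ℤ, (∀ i, c i ^ (q * k) = 1) → ∀ i, c i ^ k = 1 := fun k hk i => by
    have hg := h.gen
    have ha : ev c a ^ (q * k) = 1 := by
      simp only [ev, evL, mul_zpow, ← zpow_mul]
      rw [mul_comm (coords a 0), mul_comm (coords a 1), zpow_mul (c 0) (q * k), zpow_mul (c 1) (q * k), hk, hk]
      simp
    have hb : ev c b ^ (q * k) = 1 := by
      simp only [ev, evL, mul_zpow, ← zpow_mul]
      rw [mul_comm (coords b 0), mul_comm (coords b 1), zpow_mul (c 0) (q * k), zpow_mul (c 1) (q * k), hk, hk]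
      simp
    rw [zpow_mul] at ha hb
    fin_cases i
    · simpa [hg.1] using ha
    · simpa [hg.2] using hb
  rcases hd with hd | hd | hd | hd | ⟨-, hx⟩
  · exact Or.inl fun i => by rw [show c i = 1 from (zpow_one _).symm.trans (hfull 1 (hd ▸ hp) i), one_zpow]
  · exact Or.inl fun i => by rw [show c i = 1 from inv_eq_one.1 ((zpow_neg_one _).symm.trans (hfull (-1) (hd ▸ hp) i)), one_zpow]
  · exact Or.inr (Or.inr (hfull 3 (hd ▸ hp)))
  · exact Or.inr (Or.inr fun i => by
      have := hfull (-3) (hd ▸ hp) i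
      rwa [zpow_neg, inv_eq_one] at this)
  · obtain ⟨x, hx1⟩ := exists_basis r
    obtain ⟨e, he⟩ : ∃ e : ℤ, coords r 0 * img a b x 1 - coords r 1 * img a b x 0 = e := ⟨_, rfl⟩
    have key : ∀ i, c i ^ e = c i ^ e := fun _ => rfl
    obtain ⟨g0, g1⟩ := evL_cross c (coords r 0) (coords r 1) (img a b x 0) (img a b x 1)
    obtain ⟨f0, f1⟩ := evL_cross c (coords r 0) (coords r 1) (coords x 0) (coords x 1)
    rw [he, show evL c (coords r 0) (coords r 1) = 1 from hr] at g0 g1
    rw [show coords r 0 * coords x 1 - coords r 1 * coords x 0 = 1 from hx1,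
      show evL c (coords r 0) (coords r 1) = 1 from hr] at f0 f1
    simp only [one_zpow, one_div, div_one, zpow_one] at f0 f1 g0 g1
    have hxq := h x
    have k0 : c 0 ^ (q * e) = c 0 := by
      rw [mul_comm, zpow_mul, g0, inv_zpow, ← zpow_mul, mul_comm, zpow_mul, hxq, f0]; rfl
    have k1 : c 1 ^ (q * e) = c 1 := by
      rw [mul_comm, zpow_mul, g1, ← zpow_mul, mul_comm, zpow_mul, hxq, f1]; rfl
    have kk : ∀ i, c i ^ (q * e) = c i := fun i => by fin_cases i <;> assumption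
    rcases hx x hx1 with h1 | h1 <;> rw [he] at h1 <;> subst h1
    · exact Or.inl fun i => by rw [zpow_sub_one, show c i ^ q = c i by simpa using kk i, mul_inv_cancel]
    · exact Or.inr (Or.inl fun i => by
        have := kk i
        rw [mul_neg, mul_one, zpow_neg, inv_eq_iff_eq_inv] at this
        rw [zpow_add_one, this, inv_mul_cancel])

end Chars

section Units

variable {K : Type*} [Field K] {c : Fin 2 → Kˣ} {a b : Fin 12} (hab : Lin a b)
include hab

/-- A character fixed by a Weyl element that is outside the group of the long roots kills a short root, and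
one fixed by a nontrivial element kills some root. -/
theorem stab_cases (h : Rel c 1 a b) :
    (a = 7 ∧ b = 6) ∨ ((∃ r, ev c r = 1) ∧ ((∃ r, Short r ∧ ev c r = 1) ∨
      (a = 8 ∧ b = 5) ∨ (a = 2 ∧ b = 11) ∨ (a = 2 ∧ b = 10) ∨ (a = 8 ∧ b = 0) ∨ (a = 7 ∧ b = 1))) := by
  have hall : (∀ i, c i = 1) → (∃ r, ev c r = 1) ∧ ∃ r, Short r ∧ ev c r = 1 := fun h1 =>
    ⟨⟨7, by rw [ev_seven]; exact h1 0⟩, 7, by decide, by rw [ev_seven]; exact h1 0⟩
  have hz := h.zpow_eq
  rcases lin_cases a b hab with ⟨hd, ht⟩ | ⟨hd, h76 | ⟨rfl, rfl⟩ | ht | ht⟩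
  · obtain ⟨s, r, e0, e1, hr⟩ := reflection_root a b hab hd
    have hk : ev c r = 1 := by
      rw [ev, ← e0, ← e1, evL_sub]
      have := h s
      rw [zpow_one] at this
      rw [this, ev, div_self']
    refine Or.inr ⟨⟨r, hk⟩, ?_⟩
    rcases hr with hs | hs | hs | hs
    · exact Or.inl ⟨r, hs, hk⟩
    all_goals tauto
  · exact Or.inl h76
  · refine Or.inr ?_
    have hpm : ∀ i, c i = 1 ∨ c i = -1 := fun i => by
      have e := h.gen
      have e0 : (c 0)⁻¹ = c 0 := by simpa [ev, evL, coords] using e.1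
      have e1 : (c 1)⁻¹ = c 1 := by simpa [ev, evL, coords] using e.2
      fin_cases i
      · exact Units.inv_eq_self_iff _ |>.mp e0
      · exact Units.inv_eq_self_iff _ |>.mp e1
    obtain ⟨r, hr, hk⟩ : ∃ r, Short r ∧ ev c r = 1 := by
      rcases hpm 0 with h0 | h0
      · exact ⟨7, by decide, by rw [ev_seven, h0]⟩
      rcases hpm 1 with h1 | h1
      · exact ⟨9, by decide, by simp [ev, evL, coords, h0, h1]⟩
      · exact ⟨8, by decide, by simp [ev, evL, coords, h0, h1]⟩
    exact ⟨⟨r, hk⟩, Or.inl ⟨r, hr, hk⟩⟩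
  · have hc : ∀ i, c i = 1 := fun i => by
      have := hz i
      rw [hd, ht] at this
      norm_num at this
      exact this
    exact Or.inr ⟨(hall hc).1, Or.inl (hall hc).2⟩
  · obtain ⟨h0, h1⟩ := h.gen
    rcases rotation_three a b hab ht hd with ⟨rfl, rfl⟩ | ⟨rfl, rfl⟩
    · refine Or.inr ⟨⟨6, ?_⟩, by tauto⟩
      simp [ev, evL, coords, zpow_ofNat] at h0 h1
      rw [ev_six]
      rw [← mul_inv, inv_eq_iff_mul_eq_one, mul_right_comm, ← pow_succ, h1, one_mul] at h0
      exact h0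
    · refine Or.inr ⟨⟨6, ?_⟩, by tauto⟩
      simp [ev, evL, coords, zpow_ofNat] at h0 h1
      rw [ev_six]
      exact h0

end Units

end CfsgLib.G2Spec

namespace CfsgLib.G2Spec

open CfsgLib.G2SL3 (coords)

theorem Rel.of_gen {M : Type*} [CommGroup M] {c : Fin 2 → M} {q : ℤ} {a b : Fin 12} (ha : ev c a ^ q = c 0)
    (hb : ev c b ^ q = c 1) : Rel c q a b := by
  intro s
  have e : evL c (img a b s 0) (img a b s 1) = ev c a ^ coords s 0 * ev c b ^ coords s 1 := by
    simp only [img, ev, evL, zpow_add, mul_zpow, ← zpow_mul]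
    rw [mul_mul_mul_comm]
    simp only [mul_comm (coords s _)]
  rw [e, mul_zpow, ← zpow_mul, ← zpow_mul, mul_comm _ q, mul_comm _ q, zpow_mul, zpow_mul, ha, hb]
  rfl

/-- A character with the Frobenius relation of a rotation. -/
theorem exists_rel {M : Type*} [CommGroup M] {a b : Fin 12} {q : ℤ} (hab : Lin a b) (hd : dt a b = 1)
    (ht : tr a b = 1 ∨ tr a b = -1) {A : M} (hA : A ^ (q ^ 2 - q * tr a b + 1) = 1) :
    ∃ c : Fin 2 → M, Rel c q a b ∧ (c 0 = A ^ q ∨ c 0 = (A ^ q)⁻¹) := by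
  have ha1 := rotation_seven a b hab hd ht
  refine ⟨![A ^ (q * coords a 1), A ^ (1 - q * coords a 0)], Rel.of_gen ?_ ?_, ?_⟩
  · simp only [ev, evL, Matrix.cons_val_zero, Matrix.cons_val_one, ← zpow_mul, mul_zpow, ← zpow_add]
    congr 1
    ring
  · simp only [ev, evL, Matrix.cons_val_zero, Matrix.cons_val_one, ← zpow_mul, mul_zpow, ← zpow_add]
    rw [← div_eq_one, div_eq_mul_inv, ← zpow_neg, ← zpow_add,
      show (q * coords a 1 * coords b 0 + (1 - q * coords a 0) * coords b 1) * q + -(1 - q * coords a 0) =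
        -(q ^ 2 * dt a b - q * tr a b + 1) by simp only [dt, tr]; ring,
      hd, mul_one, zpow_neg, hA, inv_one]
  · rcases ha1 with h | h <;> simp [h]

end CfsgLib.G2Spec
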